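import Cfsg.Agent.DL.Dat.Mon
import Cfsg.Agent.BpExc.TorCent
import Mathlib.RingTheory.Invariant.Basic
import Mathlib.RingTheory.Ideal.GoingUp
import Mathlib.FieldTheory.IsAlgClosed.Basic

/-!
# The Steinberg map (helper10, GAL)

`P = I → ℤ` is the coweight lattice with the action `Wp` of the Weyl group, `om i` the orbit of the fundamental coweight
`Pi.single i 1` and `st i b` the orbit sum at the point `b : I → kˣ`.  The map `b ↦ (st i b)_i` induces a bijection from
the orbits of `W` on `I → kˣ` to `I → k` (`st_congr`, `st_inj`, `st_surj`); `st_map`, `st_mul` : symmetries and the centre.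
-/

set_option autoImplicit false
set_option linter.unusedSectionVars false

namespace Cfsg.Agent.GAL.Two

open CoxeterSystem Cfsg.Agent.ChevalleyStructure.CoxeterGeom Cfsg.Agent.Tits.Roots Cfsg.Agent.Nodes.Coroot
  Cfsg.Agent.DL Matrix

variable {I W : Type} [Fintype I] [DecidableEq I] [Group W] {M : CoxeterMatrix I} (cs : CoxeterSystem M W)
  {A : I → I → ℤ} (h : IsCartan M A)

/-! ### the action on the coweight lattice -/

/-- the matrix of `w` on the coweight lattice -/
def Wp (w : W) : Matrix I I ℤ := Matrix.of fun i j => rep cs h w⁻¹ (sr i) j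

theorem vecMul_Wp (w : W) (b : I → ℤ) : b ᵥ* Wp cs h w = rep cs h w⁻¹ b := by
  have h1 : b = ∑ i, b i • sr i := by
    funext j
    rw [Finset.sum_apply, Finset.sum_eq_single j (fun i _ hi => by simp [sr_ne hi.symm]) (by simp)]
    simp [sr_self]
  funext j
  conv_rhs => rw [h1, map_sum, Finset.sum_apply]
  simp only [vecMul, dotProduct, Wp, of_apply, map_smul, Pi.smul_apply, smul_eq_mul]

theorem dot_Wp (w : W) (b v : I → ℤ) : b ⬝ᵥ Wp cs h w *ᵥ v = rep cs h w⁻¹ b ⬝ᵥ v := by
  rw [dotProduct_mulVec, vecMul_Wp]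

theorem Wp_apply (w : W) (v : I → ℤ) (i : I) : (Wp cs h w *ᵥ v) i = rep cs h w⁻¹ (sr i) ⬝ᵥ v := rfl

theorem Wp_one : Wp cs h 1 = 1 := by
  ext i j
  rw [Wp, of_apply, inv_one, map_one, Module.End.one_apply, one_apply, sr, Pi.single_apply]
  simp only [eq_comm]

theorem Wp_mul (u w : W) : Wp cs h (u * w) = Wp cs h u * Wp cs h w := by
  ext i j
  have h1 := congrFun (vecMul_Wp cs h w (rep cs h u⁻¹ (sr i))) j
  rw [Wp, of_apply, _root_.mul_inv_rev, rep_mul_apply, ← h1]
  rfl

theorem Wp_simple (i : I) (v : I → ℤ) : Wp cs h (cs.simple i) *ᵥ v = v - v i • fun j => A i j := by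
  funext j
  rw [Wp_apply, cs.inv_simple, rep_simple_eq, sub_dotProduct, smul_dotProduct, sr, sr, single_dotProduct,
    single_dotProduct, pairing_single]
  simp [mul_comm]

theorem Wp_Wp (u w : W) (v : I → ℤ) : Wp cs h u *ᵥ Wp cs h w *ᵥ v = Wp cs h (u * w) *ᵥ v := by
  rw [mulVec_mulVec, Wp_mul]

theorem Wp_one_vec (v : I → ℤ) : Wp cs h 1 *ᵥ v = v := by rw [Wp_one, one_mulVec]

/-- the action as an additive equivalence -/
def wpE (w : W) : (I → ℤ) ≃+ (I → ℤ) where
  toFun v := Wp cs h w *ᵥ v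
  invFun v := Wp cs h w⁻¹ *ᵥ v
  left_inv v := by simp only [Wp_Wp, inv_mul_cancel, Wp_one_vec]
  right_inv v := by simp only [Wp_Wp, mul_inv_cancel, Wp_one_vec]
  map_add' := mulVec_add _

/-! ### heights -/

/-- a strictly dominant element of the root lattice -/
structure Reg (A : I → I → ℤ) (r : I → ℤ) : Prop where
  pos : ∀ i, 0 < pairing A i r
  nonneg : 0 ≤ r

include cs h in
theorem exists_reg [Finite W] : ∃ r, Reg A r := by
  have := Fintype.ofFinite W
  obtain ⟨y, hy⟩ := BpExc.TorCent.exists_rho (cs := cs) (h := h)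
  have h1 : ∀ i, 0 < pairing A i y := fun i => by
    rw [← cpr_sr cs h]
    exact hy _ (isRoot_sr cs h i) (sr_nonneg i)
  refine ⟨y, h1, ?_⟩
  by_contra h0
  obtain ⟨i, h2, h3⟩ := exists_pairing_pos cs h (x := fun j => max (-y j) 0) (fun j => le_max_right _ _) fun h2 =>
    h0 fun j => by
      have h3 := congrFun h2 j
      simp only [Pi.zero_apply] at h3 ⊢
      omega
  have h4 : pairing A i (y + fun j => max (-y j) 0) ≤ 0 := Finset.sum_nonpos fun j _ => by
    by_cases hj : i = j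
    · subst hj
      have h5 : (y + fun j => max (-y j) 0 : I → ℤ) i = 0 := by
        simp only [Pi.add_apply] at h2 ⊢
        omega
      rw [h5, mul_zero]
    · refine mul_nonpos_of_nonpos_of_nonneg (cartan_nonpos h hj) ?_
      simp only [Pi.add_apply]
      omega
  rw [pairing_add] at h4
  have := h1 i
  omega

theorem ht_simple' (r v : I → ℤ) (i : I) : r ⬝ᵥ Wp cs h (cs.simple i) *ᵥ v = r ⬝ᵥ v - v i * pairing A i r := by
  rw [Wp_simple, dotProduct_sub, dotProduct_smul, smul_eq_mul, dotProduct_comm r fun j => A i j]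
  rfl

variable {r : I → ℤ}

theorem Reg.ht_le (hr : Reg A r) {v : I → ℤ} (hv : 0 ≤ v) (w : W) :
    r ⬝ᵥ Wp cs h w *ᵥ v ≤ r ⬝ᵥ v ∧ (r ⬝ᵥ Wp cs h w *ᵥ v = r ⬝ᵥ v → Wp cs h w *ᵥ v = v) := by
  induction hn : cs.length w generalizing w with
  | zero =>
    rw [cs.length_eq_zero_iff.1 hn, Wp_one_vec]
    exact ⟨le_rfl, fun _ => rfl⟩
  | succ n ih =>
    obtain ⟨i, hi⟩ := cs.exists_leftDescent_of_ne_one (w := w) (by
      rintro rfl
      simp at hn)
    have h1 : cs.length (cs.simple i * w) = n := by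
      have := cs.isLeftDescent_iff.1 hi
      omega
    obtain ⟨h2, h3⟩ := ih _ h1
    set u := cs.simple i * w with hu
    have h4 : w = cs.simple i * u := by rw [hu, cs.simple_mul_simple_cancel_left]
    have h5 : 0 ≤ (Wp cs h u *ᵥ v) i := by
      rw [Wp_apply]
      refine dotProduct_nonneg_of_nonneg (nonneg_of_lt cs h u⁻¹ i ?_) hv
      rw [← cs.inv_simple, ← _root_.mul_inv_rev, cs.length_inv, cs.length_inv, ← h4]
      omega
    have h6 := mul_nonneg h5 (hr.pos i).le
    rw [h4, ← Wp_Wp, ht_simple']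
    refine ⟨by omega, fun h7 => ?_⟩
    have h8 : (Wp cs h u *ᵥ v) i = 0 := (mul_eq_zero.1 (by omega)).resolve_right (hr.pos i).ne'
    rw [Wp_simple, h8, zero_smul, sub_zero]
    exact h3 (by omega)

theorem Reg.nonneg_of_max (hr : Reg A r) {v : I → ℤ} (hv : ∀ i, r ⬝ᵥ Wp cs h (cs.simple i) *ᵥ v ≤ r ⬝ᵥ v) : 0 ≤ v := by
  intro i
  have h1 := hv i
  rw [ht_simple'] at h1
  exact (mul_nonneg_iff_of_pos_right (hr.pos i)).1 (by omega)

theorem exists_dominant [Finite W] (v : I → ℤ) : ∃ w, 0 ≤ Wp cs h w *ᵥ v := by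
  obtain ⟨r, hr⟩ := exists_reg cs h
  obtain ⟨w, hw⟩ := Finite.exists_max fun w => r ⬝ᵥ Wp cs h w *ᵥ v
  exact ⟨w, hr.nonneg_of_max cs h fun i => by rw [Wp_Wp]; exact hw _⟩

/-! ### orbit sums -/

variable [Finite W]

/-- the orbit of the fundamental coweight -/
noncomputable def om (i : I) : Finset (I → ℤ) := (Set.finite_range fun w => Wp cs h w *ᵥ Pi.single i 1).toFinset

theorem mem_om {i : I} {v : I → ℤ} : v ∈ om cs h i ↔ ∃ w, Wp cs h w *ᵥ Pi.single i 1 = v :=
  Set.Finite.mem_toFinset _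

theorem self_mem_om (i : I) : Pi.single i 1 ∈ om cs h i := (mem_om cs h).2 ⟨1, Wp_one_vec cs h _⟩

theorem Wp_mem_om {i : I} {v : I → ℤ} (hv : v ∈ om cs h i) (w : W) : Wp cs h w *ᵥ v ∈ om cs h i := by
  obtain ⟨u, rfl⟩ := (mem_om cs h).1 hv
  exact (mem_om cs h).2 ⟨w * u, (Wp_Wp cs h _ _ _).symm⟩

theorem sum_om {β : Type*} [AddCommMonoid β] (i : I) (w : W) (f : (I → ℤ) → β) :
    ∑ v ∈ om cs h i, f (Wp cs h w *ᵥ v) = ∑ v ∈ om cs h i, f v :=
  Finset.sum_equiv (wpE cs h w).toEquiv (fun v => ⟨fun hv => Wp_mem_om cs h hv w, fun hv => by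
    have h1 := Wp_mem_om cs h hv w⁻¹
    rwa [show Wp cs h w⁻¹ *ᵥ (wpE cs h w).toEquiv v = v from (wpE cs h w).left_inv v] at h1⟩) fun _ _ => rfl

variable {k : Type} [Field k]

/-- the coordinates of the Steinberg map -/
noncomputable def st (i : I) (b : I → kˣ) : k := ∑ v ∈ om cs h i, (chr v b : k)

theorem st_congr {w : W} {b b' : I → kˣ} (hb : ∀ v, chr (Wp cs h w *ᵥ v) b' = chr v b) (i : I) :
    st cs h i b = st cs h i b' := by
  rw [st, st, ← sum_om cs h i w fun v => (chr v b' : k)]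
  simp only [hb]

theorem chr_Wp {z : I → kˣ} (hz : ∀ j, chr (fun i => A j i) z = 1) (w : W) (v : I → ℤ) :
    chr (Wp cs h w *ᵥ v) z = chr v z := by
  induction w using cs.simple_induction_left with
  | one => rw [Wp_one_vec]
  | mul_simple_left w i ih => rw [← Wp_Wp, Wp_simple, chr_sub, chr_zsmul, hz, _root_.one_zpow, inv_one, mul_one, ih]

theorem st_mul {z : I → kˣ} (hz : ∀ j, chr (fun i => A j i) z = 1) (i : I) (b : I → kˣ) :
    st cs h i (b * z) = z i * st cs h i b := by
  rw [st, st, Finset.mul_sum]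
  refine Finset.sum_congr rfl fun v hv => ?_
  obtain ⟨w, rfl⟩ := (mem_om cs h).1 hv
  rw [map_mul, chr_Wp cs h hz, chr_single, Units.val_mul, mul_comm]

theorem st_map [CharP k 2] (π : Equiv.Perm I) (ε : I → ℕ) (Ψ : Matrix I I ℤ)
    (h1 : ∀ i, Ψ *ᵥ Pi.single i 1 = 2 ^ ε i • Pi.single (π i) 1)
    (h2 : ∀ i, Ψ * Wp cs h (cs.simple i) = Wp cs h (cs.simple (π i)) * Ψ) {b b' : I → kˣ}
    (hb : ∀ v, chr v b' = chr (Ψ *ᵥ v) b) (i : I) : st cs h i b' = st cs h (π i) b ^ 2 ^ ε i := by
  have h3 : ∀ w, ∃ w', Ψ * Wp cs h w = Wp cs h w' * Ψ := fun w => by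
    induction w using cs.simple_induction_left with
    | one => exact ⟨1, by rw [Wp_one, mul_one, one_mul]⟩
    | mul_simple_left w j ih =>
      obtain ⟨w', hw⟩ := ih
      exact ⟨cs.simple (π j) * w', by rw [Wp_mul, Wp_mul, ← mul_assoc, h2, mul_assoc, hw, mul_assoc]⟩
  have h4 : ∀ w', ∃ w, Ψ * Wp cs h w = Wp cs h w' * Ψ := fun w => by
    induction w using cs.simple_induction_left with
    | one => exact ⟨1, by rw [Wp_one, mul_one, one_mul]⟩
    | mul_simple_left w j ih =>
      obtain ⟨w', hw⟩ := ih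
      obtain ⟨j, rfl⟩ := π.surjective j
      exact ⟨cs.simple j * w', by rw [Wp_mul, Wp_mul, ← mul_assoc, h2, mul_assoc, hw, mul_assoc]⟩
  have h5 : ∀ v j, (Ψ *ᵥ v) (π j) = 2 ^ ε j * v j := fun v j => by
    have h6 : ∀ l, Ψ (π j) l = if l = j then 2 ^ ε j else 0 := fun l => by
      have h7 := congrFun (h1 l) (π j)
      rw [mulVec_single_one] at h7
      rw [show Ψ (π j) l = _ from h7, Pi.smul_apply, Pi.single_apply]
      by_cases h8 : l = j
      · simp [h8]
      · simp [h8, Ne.symm h8]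
    simp [mulVec, dotProduct, h6]
  have h6 : Function.Injective Ψ.mulVec := fun u v huv => funext fun j =>
    mul_left_cancel₀ (a := (2 : ℤ) ^ ε j) (by positivity) (by rw [← h5, ← h5, huv])
  have h7 : Function.Injective fun u : I → ℤ => 2 ^ ε i • u := fun u v huv => funext fun j => by
    have h8 := congrFun huv j
    simpa using h8
  have h8 : (om cs h i).image Ψ.mulVec = (om cs h (π i)).image fun u => 2 ^ ε i • u := by
    ext v
    simp only [Finset.mem_image, mem_om]
    constructor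
    · rintro ⟨_, ⟨w, rfl⟩, rfl⟩
      obtain ⟨w', hw⟩ := h3 w
      exact ⟨_, ⟨w', rfl⟩, by rw [mulVec_mulVec, hw, ← mulVec_mulVec, h1, mulVec_smul]⟩
    · rintro ⟨_, ⟨w', rfl⟩, rfl⟩
      obtain ⟨w, hw⟩ := h4 w'
      exact ⟨_, ⟨w, rfl⟩, by rw [mulVec_mulVec, hw, ← mulVec_mulVec, h1, mulVec_smul]⟩
  have : Fact (Nat.Prime 2) := ⟨Nat.prime_two⟩
  rw [st, st, sum_pow_char_pow]
  simp only [hb]
  rw [← Finset.sum_image (f := fun v => (chr v b : k)) h6.injOn, h8, Finset.sum_image h7.injOn]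
  simp only [chr_nsmul, Units.val_pow_eq_pow_val]

/-! ### the group algebra of the lattice -/

section Alg

open AddMonoidAlgebra

variable (k) in
/-- the action on the group algebra -/
noncomputable def acW : W →* (AddMonoidAlgebra k (I → ℤ) ≃ₐ[k] AddMonoidAlgebra k (I → ℤ)) where
  toFun w := domCongr k k (wpE cs h w)
  map_one' := by
    rw [AlgEquiv.aut_one, ← domCongr_refl]
    exact congrArg _ (AddEquiv.ext (Wp_one_vec cs h))
  map_mul' u w := by
    rw [AlgEquiv.aut_mul, trans_domCongr_domCongr]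
    exact congrArg _ (AddEquiv.ext fun v => (Wp_Wp cs h u w v).symm)

theorem acW_single (w : W) (v : I → ℤ) (c : k) : acW cs h k w (single v c) = single (Wp cs h w *ᵥ v) c :=
  domCongr_single _ _ _

theorem coeff_acW (w : W) (f : AddMonoidAlgebra k (I → ℤ)) (v : I → ℤ) :
    (acW cs h k w f).coeff (Wp cs h w *ᵥ v) = f.coeff v :=
  (coeff_domCongr _ _ _).trans (congrArg _ ((wpE cs h w).left_inv v))

variable (k) in
/-- the orbit sums -/
noncomputable def mm (i : I) : AddMonoidAlgebra k (I → ℤ) := ∑ v ∈ om cs h i, single v 1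

theorem acW_mm (w : W) (i : I) : acW cs h k w (mm cs h k i) = mm cs h k i := by
  rw [mm, map_sum]
  simp only [acW_single]
  exact sum_om cs h i w fun v => single v (1 : k)

theorem acW_aeval (w : W) (p : MvPolynomial I k) :
    acW cs h k w (MvPolynomial.aeval (mm cs h k) p) = MvPolynomial.aeval (mm cs h k) p := by
  have h1 := MvPolynomial.comp_aeval_apply (mm cs h k) (acW cs h k w).toAlgHom p
  rw [show acW cs h k w (MvPolynomial.aeval (mm cs h k) p) = _ from h1]
  congr 2
  exact funext (acW_mm cs h w)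

/-- evaluation at a point of the torus -/
noncomputable def evb (b : I → kˣ) : AddMonoidAlgebra k (I → ℤ) →ₐ[k] k :=
  lift k k (I → ℤ) { toFun := fun v => (chr v.toAdd b : k)
                     map_one' := by rw [toAdd_one, chr_zero, Units.val_one]
                     map_mul' := fun u v => by rw [toAdd_mul, chr_add, Units.val_mul] }

theorem evb_single (b : I → kˣ) (v : I → ℤ) : evb b (single v 1) = chr v b := by
  rw [evb, lift_single, one_smul]
  rfl

theorem evb_mm (b : I → kˣ) (i : I) : evb b (mm cs h k i) = st cs h i b := by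
  rw [mm, map_sum]
  simp only [evb_single]
  rfl

variable (k) in
/-- the elements of height at most `n` -/
def Lo (r : I → ℤ) (n : ℤ) : Submodule k (AddMonoidAlgebra k (I → ℤ)) where
  carrier := {f | ∀ u, n < r ⬝ᵥ u → f.coeff u = 0}
  add_mem' ha hb u hu := by rw [coeff_add, Finsupp.add_apply, ha u hu, hb u hu, add_zero]
  zero_mem' _ _ := rfl
  smul_mem' c f hf u hu := by rw [coeff_smul_apply, hf u hu, smul_zero]

theorem Lo_mono {a b : ℤ} (hab : a ≤ b) : Lo k r a ≤ Lo k r b := fun _ hf u hu => hf u (hab.trans_lt hu)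

theorem mul_mem_Lo {a b : ℤ} {f g : AddMonoidAlgebra k (I → ℤ)} (hf : f ∈ Lo k r a) (hg : g ∈ Lo k r b) :
    f * g ∈ Lo k r (a + b) := by
  intro u hu
  by_contra h0
  obtain ⟨x, hx, y, hy, rfl⟩ := Finset.mem_add.1 (support_coeff_mul_subset f g (Finsupp.mem_support_iff.2 h0))
  have h1 : r ⬝ᵥ x ≤ a := not_lt.1 fun h2 => Finsupp.mem_support_iff.1 hx (hf x h2)
  have h2 : r ⬝ᵥ y ≤ b := not_lt.1 fun h2 => Finsupp.mem_support_iff.1 hy (hg y h2)
  rw [dotProduct_add] at hu
  omega

theorem single_mem_Lo (v : I → ℤ) (c : k) : single v c ∈ Lo k r (r ⬝ᵥ v) := fun u hu => by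
  rw [coeff_single_apply, if_neg]
  rintro rfl
  exact lt_irrefl _ hu

/-- `f` has the leading term `v` -/
def Tri (r : I → ℤ) (f : AddMonoidAlgebra k (I → ℤ)) (v : I → ℤ) : Prop := f - single v 1 ∈ Lo k r (r ⬝ᵥ v - 1)

theorem tri_one : Tri r (1 : AddMonoidAlgebra k (I → ℤ)) 0 := by
  rw [Tri, one_def, sub_self]
  exact zero_mem _

theorem Tri.mul {f g : AddMonoidAlgebra k (I → ℤ)} {u v : I → ℤ} (hf : Tri r f u) (hg : Tri r g v) :
    Tri r (f * g) (u + v) := by
  have h1 : f * g - single (u + v) 1 =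
      (f - single u 1) * (g - single v 1) + (f - single u 1) * single v 1 + single u 1 * (g - single v 1) := by
    rw [← mul_one (1 : k), ← single_mul_single, mul_one]
    ring
  rw [Tri, h1, dotProduct_add]
  exact add_mem (add_mem (Lo_mono (by omega) (mul_mem_Lo hf hg)) (Lo_mono (by omega) (mul_mem_Lo hf (single_mem_Lo v 1))))
    (Lo_mono (by omega) (mul_mem_Lo (single_mem_Lo u 1) hg))

theorem Tri.pow {f : AddMonoidAlgebra k (I → ℤ)} {u : I → ℤ} (hf : Tri r f u) (n : ℕ) : Tri r (f ^ n) (n • u) := by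
  induction n with
  | zero => simpa using tri_one
  | succ n ih =>
    rw [pow_succ, succ_nsmul]
    exact ih.mul hf

theorem tri_mm (hr : Reg A r) (i : I) : Tri r (mm cs h k i) (Pi.single i 1) := by
  rw [Tri, mm, ← Finset.add_sum_erase _ _ (self_mem_om cs h i), add_sub_cancel_left]
  refine sum_mem fun v hv => Lo_mono ?_ (single_mem_Lo v 1)
  obtain ⟨h1, h2⟩ := Finset.mem_erase.1 hv
  obtain ⟨w, rfl⟩ := (mem_om cs h).1 h2
  obtain ⟨h3, h4⟩ := hr.ht_le cs h (sr_nonneg i) w
  have h5 := lt_of_le_of_ne h3 fun h5 => h1 (h4 h5)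
  exact Int.le_sub_one_of_lt h5

theorem tri_prod (hr : Reg A r) (n : I → ℕ) : Tri r (∏ i, mm cs h k i ^ n i) fun i => n i := by
  have h1 : ∀ s : Finset I, Tri r (∏ i ∈ s, mm cs h k i ^ n i) (∑ i ∈ s, n i • Pi.single i 1) := fun s => by
    induction s using Finset.induction_on with
    | empty => simpa using tri_one
    | insert i s hi ih =>
      rw [Finset.prod_insert hi, Finset.sum_insert hi]
      exact ((tri_mm cs h hr i).pow _).mul ih
  have h2 : (∑ i, n i • Pi.single i 1 : I → ℤ) = fun i => (n i : ℤ) := by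
    funext j
    simp [Finset.sum_apply, Pi.single_apply]
  rw [← h2]
  exact h1 _

/-- the invariants are polynomials in the orbit sums -/
theorem exists_poly {f : AddMonoidAlgebra k (I → ℤ)} (hf : ∀ w, acW cs h k w f = f) :
    ∃ p : MvPolynomial I k, MvPolynomial.aeval (mm cs h k) p = f := by
  obtain ⟨r, hr⟩ := exists_reg cs h
  have key : ∀ (N : ℕ) (f : AddMonoidAlgebra k (I → ℤ)), (∀ w, acW cs h k w f = f) → f ∈ Lo k r (N - 1) →
      ∃ p : MvPolynomial I k, MvPolynomial.aeval (mm cs h k) p = f := by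
    intro N
    induction N with
    | zero =>
      refine fun f hf h0 => ⟨0, ?_⟩
      rw [map_zero]
      refine (AddMonoidAlgebra.ext (Finsupp.ext fun u => ?_)).symm
      obtain ⟨w, hw⟩ := exists_dominant cs h u
      have h1 := dotProduct_nonneg_of_nonneg hr.nonneg hw
      rw [← coeff_acW cs h w, hf]
      exact h0 _ (by omega)
    | succ N ih =>
      intro f hf h0
      set D := f.coeff.support.filter fun u => r ⬝ᵥ u = N with hD
      have hdom : ∀ u ∈ D, 0 ≤ u := fun u hu => hr.nonneg_of_max cs h fun i => by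
        obtain ⟨h1, h2⟩ := Finset.mem_filter.1 hu
        by_contra h3
        refine Finsupp.mem_support_iff.1 h1 ?_
        rw [← coeff_acW cs h (cs.simple i), hf]
        exact h0 _ (by push_cast; omega)
      set q : MvPolynomial I k := ∑ u ∈ D, f.coeff u • ∏ i, MvPolynomial.X i ^ (u i).toNat with hq
      have h1 : f - ∑ u ∈ D, f.coeff u • single u (1 : k) ∈ Lo k r (N - 1) := fun u hu => by
        rw [coeff_sub, coeff_sum, Finsupp.sub_apply, Finsupp.finset_sum_apply]
        simp only [coeff_smul_apply, coeff_single_apply, smul_eq_mul, mul_ite, mul_one, mul_zero, Finset.sum_ite_eq']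
        split_ifs with h2
        · exact sub_self _
        · rw [sub_zero]
          by_contra h3
          have h4 : ¬ ((N + 1 : ℕ) : ℤ) - 1 < r ⬝ᵥ u := fun h4 => h3 (h0 u h4)
          exact h2 (Finset.mem_filter.2 ⟨Finsupp.mem_support_iff.2 h3, by push_cast at h4; omega⟩)
      have h2 : ∑ u ∈ D, f.coeff u • (∏ i, mm cs h k i ^ (u i).toNat - single u (1 : k)) ∈ Lo k r (N - 1) :=
        sum_mem fun u hu => Submodule.smul_mem _ _ (by
          have h3 := tri_prod (k := k) cs h hr fun i => (u i).toNat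
          have h4 : (fun i => ((u i).toNat : ℤ)) = u := funext fun i => Int.toNat_of_nonneg (hdom u hu i)
          rwa [h4, Tri, (Finset.mem_filter.1 hu).2] at h3)
      obtain ⟨p, hp⟩ := ih (f - MvPolynomial.aeval (mm cs h k) q) (fun w => by rw [map_sub, hf, acW_aeval]) (by
        have h3 := sub_mem h1 h2
        simp only [smul_sub, Finset.sum_sub_distrib, sub_sub, add_sub_cancel] at h3
        simpa only [hq, map_sum, map_smul, map_prod, map_pow, MvPolynomial.aeval_X] using h3)
      exact ⟨p + q, by rw [map_add, hp, sub_add_cancel]⟩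
  refine key (f.coeff.support.sup fun u => (r ⬝ᵥ u).toNat + 1) f hf fun u hu => ?_
  by_contra h0
  have h1 := Finset.le_sup (f := fun u => (r ⬝ᵥ u).toNat + 1) (Finsupp.mem_support_iff.2 h0)
  omega

/-- the orbit sums are algebraically independent -/
theorem eq_zero_of_aeval {p : MvPolynomial I k} (hp : MvPolynomial.aeval (mm cs h k) p = 0) : p = 0 := by
  obtain ⟨r, hr⟩ := exists_reg cs h
  by_contra h0
  obtain ⟨n, hn, hmax⟩ := p.support.exists_max_image (fun n => r ⬝ᵥ fun i => (n i : ℤ))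
    (MvPolynomial.support_nonempty.2 h0)
  have h1 := congrArg (fun f : AddMonoidAlgebra k (I → ℤ) => f.coeff fun i => (n i : ℤ)) hp
  simp only [MvPolynomial.aeval_def, MvPolynomial.eval₂_eq', ← Algebra.smul_def, coeff_sum, Finsupp.finset_sum_apply,
    coeff_smul_apply, coeff_zero, Finsupp.zero_apply] at h1
  have h2 : ∀ m ∈ p.support, (∏ i, mm cs h k i ^ m i).coeff (fun i => (n i : ℤ)) = if m = n then 1 else 0 := by
    intro m hm
    have h3 := tri_prod (k := k) cs h hr m _ (Int.sub_one_lt_of_le (hmax m hm))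
    rw [coeff_sub, Finsupp.sub_apply, sub_eq_zero] at h3
    rw [h3, coeff_single_apply]
    refine if_congr ⟨fun h4 => Finsupp.ext fun i => ?_, fun h4 => by rw [h4]⟩ rfl rfl
    exact_mod_cast congrFun h4 i
  rw [Finset.sum_congr rfl fun m hm => by rw [h2 m hm]] at h1
  simp only [smul_eq_mul, mul_ite, mul_one, mul_zero, Finset.sum_ite_eq', if_pos hn] at h1
  exact MvPolynomial.mem_support_iff.1 hn h1

theorem st_inj {b b' : I → kˣ} (hb : ∀ i, st cs h i b = st cs h i b') :
    ∃ w, ∀ v, chr (Wp cs h w *ᵥ v) b' = chr v b := by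
  letI := MulSemiringAction.compHom (AddMonoidAlgebra k (I → ℤ)) (acW cs h k)
  letI := (MvPolynomial.aeval (mm cs h k) : MvPolynomial I k →ₐ[k] _).toRingHom.toAlgebra
  have : Algebra.IsInvariant (MvPolynomial I k) (AddMonoidAlgebra k (I → ℤ)) W := ⟨fun f hf => exists_poly cs h hf⟩
  have : SMulCommClass W (MvPolynomial I k) (AddMonoidAlgebra k (I → ℤ)) := ⟨fun w p f => by
    show acW cs h k w (MvPolynomial.aeval (mm cs h k) p * f) = MvPolynomial.aeval (mm cs h k) p * acW cs h k w f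
    rw [map_mul, acW_aeval]⟩
  have := RingHom.ker_isPrime (evb b)
  have := RingHom.ker_isPrime (evb b')
  obtain ⟨w, hw⟩ := Algebra.IsInvariant.exists_smul_of_under_eq (MvPolynomial I k) (AddMonoidAlgebra k (I → ℤ)) W
    (RingHom.ker (evb b)) (RingHom.ker (evb b')) (Ideal.ext fun p => by
      show evb b (MvPolynomial.aeval (mm cs h k) p) = 0 ↔ evb b' (MvPolynomial.aeval (mm cs h k) p) = 0
      rw [MvPolynomial.comp_aeval_apply, MvPolynomial.comp_aeval_apply]
      simp only [evb_mm, hb])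
  refine ⟨w, fun v => Units.ext ?_⟩
  have h1 : single v 1 - algebraMap k _ (chr v b : k) ∈ RingHom.ker (evb b) := by
    rw [RingHom.mem_ker, map_sub, evb_single, AlgHom.commutes]
    exact sub_self _
  have h2 := Ideal.smul_mem_pointwise_smul w _ _ h1
  rw [← hw] at h2
  have h3 : evb b' (acW cs h k w (single v 1 - algebraMap k _ (chr v b : k))) = 0 := h2
  rwa [map_sub, acW_single, AlgEquiv.commutes, map_sub, evb_single, AlgHom.commutes, sub_eq_zero] at h3

theorem st_surj [IsAlgClosed k] (a : I → k) : ∃ b, ∀ i, st cs h i b = a i := by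
  letI := MulSemiringAction.compHom (AddMonoidAlgebra k (I → ℤ)) (acW cs h k)
  letI := (MvPolynomial.aeval (mm cs h k) : MvPolynomial I k →ₐ[k] _).toRingHom.toAlgebra
  have : Algebra.IsInvariant (MvPolynomial I k) (AddMonoidAlgebra k (I → ℤ)) W := ⟨fun f hf => exists_poly cs h hf⟩
  have := Algebra.IsInvariant.isIntegral (MvPolynomial I k) (AddMonoidAlgebra k (I → ℤ)) W
  set φ : MvPolynomial I k →ₐ[k] k := MvPolynomial.aeval a with hφ
  have := RingHom.ker_isMaximal_of_surjective φ fun c => ⟨algebraMap k _ c, φ.commutes c⟩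
  obtain ⟨Q, hQ, hc⟩ := Ideal.exists_ideal_over_maximal_of_isIntegral (S := AddMonoidAlgebra k (I → ℤ))
    (RingHom.ker φ) fun p hp => by
      rw [eq_zero_of_aeval cs h (p := p) hp]
      exact zero_mem _
  have h1 : ∀ p, Ideal.Quotient.mk Q (MvPolynomial.aeval (mm cs h k) p) = algebraMap k _ (φ p) := fun p => by
    have h2 : p - algebraMap k _ (φ p) ∈ Q.comap (algebraMap (MvPolynomial I k) (AddMonoidAlgebra k (I → ℤ))) := by
      rw [hc, RingHom.mem_ker, map_sub, AlgHom.commutes]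
      exact sub_self _
    have h3 : MvPolynomial.aeval (mm cs h k) (p - algebraMap k _ (φ p)) ∈ Q := h2
    rw [map_sub, AlgHom.commutes] at h3
    exact Ideal.Quotient.eq.2 h3
  have : Algebra.IsIntegral k (AddMonoidAlgebra k (I → ℤ) ⧸ Q) := ⟨fun x => by
    obtain ⟨x, rfl⟩ := Ideal.Quotient.mk_surjective x
    obtain ⟨p, hp, h2⟩ := Algebra.IsIntegral.isIntegral (R := MvPolynomial I k) x
    refine ⟨p.map φ.toRingHom, hp.map _, ?_⟩
    have h3 := congrArg (Ideal.Quotient.mk Q) h2
    rw [Polynomial.hom_eval₂, map_zero] at h3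
    rw [Polynomial.eval₂_map, ← h3]
    congr 1
    exact RingHom.ext fun p => (h1 p).symm⟩
  set ψ : AddMonoidAlgebra k (I → ℤ) →ₐ[k] k :=
    (AlgEquiv.ofBijective (Algebra.ofId k _) IsAlgClosed.algebraMap_bijective_of_isIntegral).symm.toAlgHom.comp
      (Ideal.Quotient.mkₐ k Q) with hψ
  have h2 : ∀ i, ψ (mm cs h k i) = a i := fun i => by
    have h3 := h1 (MvPolynomial.X i)
    rw [MvPolynomial.aeval_X, hφ, MvPolynomial.aeval_X] at h3
    exact (AlgEquiv.symm_apply_eq
      (AlgEquiv.ofBijective (Algebra.ofId k _) IsAlgClosed.algebraMap_bijective_of_isIntegral)).2 h3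
  set χ : Multiplicative (I → ℤ) →* kˣ := ((ψ : _ →* k).comp (of k (I → ℤ))).toHomUnits with hχ
  refine ⟨fun j => χ (Multiplicative.ofAdd (Pi.single j 1)), fun i => ?_⟩
  rw [← h2, mm, map_sum, st]
  refine Finset.sum_congr rfl fun v _ => ?_
  have h3 : chr v (fun j => χ (Multiplicative.ofAdd (Pi.single j 1))) = χ (Multiplicative.ofAdd v) := by
    rw [chr_apply]
    simp only [← map_zpow, ← map_prod, ← ofAdd_zsmul, ← ofAdd_sum]
    congr 2
    funext j
    simp [Finset.sum_apply, Pi.single_apply]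
  rw [h3]
  rfl

end Alg

end Cfsg.Agent.GAL.Two
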