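import Cfsg.Agent.GAL.Two.Dda
import Cfsg.Agent.GAL.C2.Lab

/-!
# S4617 / S4618, characteristic 2: from `S` to `G^F` and back (helper10, GAL)

`kp M : G^F →* MulAut S` is the action by conjugation; its kernel is the centre, its image `K` contains the inner
automorphisms as a normal subgroup of odd index with abelian quotient.

* `ff_of` : `FF A` from the invariant characters of `G^F` which are trivial on the centre;
* `tw_of_ff` : under `FF A`, the Galois conjugate of such a character is a twist with a linear character.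
-/

set_option autoImplicit false
set_option linter.unusedSectionVars false

namespace Cfsg.Agent.GAL.Two

open Cfsg Subgroup Cfsg.Agent.GAL.Nrm Cfsg.Agent.DL Cfsg.Agent.DL.PP Cfsg.Agent.DL.St Cfsg.Agent.Tits.Roots
  Cfsg.Agent.GAL.C2 Cfsg.Agent.H601.K4 Cfsg.Agent.TAB.Use Cfsg.Agent.ODD.Red Cfsg.Agent.Characters
  Cfsg.Agent.Characters.Core

theorem mul_conj_mul {S : Type} [Group S] (a : MulAut S) (s : S) :
    a * MulAut.conj s * a⁻¹ = MulAut.conj (a s) := by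
  ext x
  simp

variable {k : Type} [Field k] [CharP k 2] {Y : Type} [Group Y] {N : Type} [Fintype N] [DecidableEq N]
  {ρ : Y →* GL N k} {F : MulAut Y} {G : Subgroup Y} [IsAlgClosed k] {D : Datum 2 ρ F G}
  {X S : Type} [Group X] [Group S] {ι : X →* Y} {pr : X →* S} (M : Md D ι pr)

include M in
theorem exists_kp (g : GF F G) : ∃ a, C2.Ind ι pr (MulAut.conj (g : Y)) a :=
  exists_ind M fun s => M.emb.choose_spec.2.norm g g.2 s

/-- the action of `G^F` on `S` -/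
noncomputable def kp : GF F G →* MulAut S :=
  MonoidHom.mk' (fun g => (exists_kp M g).choose) fun a b =>
    ind_eq M (exists_kp M (a * b)).choose_spec (ind_mul (exists_kp M a).choose_spec (exists_kp M b).choose_spec)
      fun s => by rw [coe_mul, map_mul]

theorem kp_ind (g : GF F G) : C2.Ind ι pr (MulAut.conj (g : Y)) (kp M g) := (exists_kp M g).choose_spec

theorem kp_pr {g : GF F G} {x x' : X} (h : ι x' = g * ι x * (g : Y)⁻¹) : kp M g (pr x) = pr x' := by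
  obtain ⟨y, h1, h2⟩ := kp_ind M g x
  rw [h2, md_inj M (h1.symm.trans h.symm)]

theorem kp_ι {g : GF F G} {x : X} (h : ι x = g) : kp M g = MulAut.conj (pr x) := by
  ext s
  obtain ⟨s, rfl⟩ := M.surj s
  rw [kp_pr M (x' := x * s * x⁻¹) (by rw [map_mul, map_mul, map_inv, h]), map_mul, map_mul, map_inv, MulAut.conj_apply]

theorem kp_aut {α : MulAut Y} {B : Matrix D.R D.R ℤ} {a : MulAut S} (ha : Au D α B) (hi : C2.Ind ι pr α a)
    (g : GF F G) : kp M (ha.aut g) = a * kp M g * a⁻¹ :=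
  eq_mul_inv_of_mul_eq (ind_eq M (ind_mul (kp_ind M _) hi) (ind_mul hi (kp_ind M g)) fun s => by
    simp [Au.coe_aut])

theorem kp_Zc {g : GF F G} (hg : (g : Y) ∈ Zc D) : kp M g = 1 :=
  ind_eq M (kp_ind M g) ind_one fun s => by
    rw [MulAut.conj_apply, Zc_comm hg (md_mem M s).1, mul_inv_cancel_right, MulAut.one_apply]

theorem Zc_of_kp (hZ : center S = ⊥) {g : GF F G} (hg : kp M g = 1) : (g : Y) ∈ Zc D := by
  have hc : ∀ v ∈ D.U ⊓ GF F G, g * v * (g : Y)⁻¹ = v := fun v hv => by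
    obtain ⟨x, rfl⟩ := md_U M hv
    obtain ⟨y, h1, h2⟩ := kp_ind M g x
    obtain ⟨n, hn⟩ := pow_U D hv.1
    rw [hg, MulAut.one_apply, pr_eq_iff M] at h2
    exact h1.trans (eq_of_cen D (md_mem M x).1 (md_mem M y).1 ⟨n, hn⟩
      ⟨n, by rw [← h1, ← map_pow, hn, map_one]⟩ h2).symm
  obtain ⟨u, hu, t, ht, h1⟩ := exists_BF M.good.qs g.2 fun v hv => by
    rw [← hc v hv, show (g : Y)⁻¹ * (g * v * (g : Y)⁻¹) * g = v by group]
    exact hv.1
  have h2 : t ∈ Zc D := ⟨ht.1, fun i => by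
    obtain ⟨v, hv, h2⟩ := exists_regU M.good.qs
    have h3 := kap_conj_B hu.1 ht.1 hv.1 i
    rw [← h1, hc v hv] at h3
    exact (mul_eq_right₀ (h2 i)).1 h3.symm⟩
  obtain ⟨x, rfl⟩ := md_U M hu
  have h3 : MulAut.conj (pr x) = 1 := by
    rw [← kp_ι M (g := ⟨ι x, hu.2⟩) rfl, ← hg, show g = ⟨ι x, hu.2⟩ * ⟨t, ht.2⟩ from Subtype.ext h1, map_mul,
      kp_Zc M (g := ⟨t, ht.2⟩) h2, mul_one]
  have h4 : pr x ∈ center S := mem_center_iff.2 fun s =>
    (mul_inv_eq_iff_eq_mul.1 (congrArg (fun φ : MulAut S => φ s) h3)).symm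
  rw [hZ, mem_bot, M.ker] at h4
  rwa [h1, D.eq_one_of_mem_U_of_mem_T hu.1 ((cen_of_center M h4).mem_T D hu.2.1), one_mul]

/-- the inner automorphisms -/
noncomputable def iK : S →* (kp M).range :=
  (MulAut.conj (G := S)).codRestrict _ fun s => by
    obtain ⟨x, rfl⟩ := M.surj s
    exact ⟨⟨ι x, md_mem M x⟩, kp_ι M rfl⟩

theorem coe_iK (s : S) : (iK M s : MulAut S) = MulAut.conj s := rfl

theorem rr_ι {g : GF F G} {x : X} (h : ι x = g) : (kp M).rangeRestrict g = iK M (pr x) := Subtype.ext (kp_ι M h)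

theorem iK_inj (hZ : center S = ⊥) : Function.Injective (iK M) := (injective_iff_map_eq_one _).2 fun s hs => by
  rw [← mem_bot, ← hZ]
  exact mem_center_iff.2 fun x =>
    (mul_inv_eq_iff_eq_mul.1 (congrArg (fun φ : (kp M).range => (φ : MulAut S) x) hs)).symm

theorem iK_conj (a : (kp M).range) (s : S) : iK M ((a : MulAut S) s) = a * iK M s * a⁻¹ :=
  Subtype.ext (mul_conj_mul _ s).symm

theorem iK_normal : (iK M).range.Normal := ⟨by
  rintro _ ⟨s, rfl⟩ a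
  exact ⟨_, iK_conj M a s⟩⟩

theorem K_split (a : (kp M).range) : ∃ s, ∃ t ∈ TH D, a = iK M s * (kp M).rangeRestrict t := by
  obtain ⟨g, rfl⟩ := (kp M).rangeRestrict_surjective a
  obtain ⟨x, t, ht, h⟩ := M.emb.choose_spec.2.split g g.2
  exact ⟨pr x, ⟨t, D.T_le_G ht.1, ht.2⟩, ht.1, by
    rw [← rr_ι M (g := ⟨ι x, md_mem M x⟩) rfl, ← map_mul]
    exact congrArg _ (Subtype.ext h)⟩

theorem iK_odd [Finite S] : Odd (iK M).range.index := by
  have := iK_normal M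
  have := fact2
  rw [odd_iff', index_eq_card]
  intro h
  obtain ⟨q, hq⟩ := exists_prime_orderOf_dvd_card' 2 h
  obtain ⟨a, rfl⟩ := QuotientGroup.mk'_surjective _ q
  obtain ⟨g, rfl⟩ := (kp M).rangeRestrict_surjective a
  obtain ⟨x, hx⟩ := M.emb.choose_spec.2.pow g g.2
  refine odd_iff'.1 M.emb.choose_spec.1 (hq.symm.dvd.trans (orderOf_dvd_of_pow_eq_one ?_))
  rw [← map_pow, ← map_pow, rr_ι M (x := x) hx, QuotientGroup.mk'_apply, QuotientGroup.eq_one_iff]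
  exact ⟨_, rfl⟩

theorem iK_ab (a b : (kp M).range) : (a * b)⁻¹ * (b * a) ∈ (iK M).range := by
  have := iK_normal M
  have h : ∀ s, ((iK M s : (kp M).range) : _ ⧸ (iK M).range) = 1 := fun s => (QuotientGroup.eq_one_iff _).2 ⟨s, rfl⟩
  obtain ⟨s, t, ht, rfl⟩ := K_split M a
  obtain ⟨s', t', ht', rfl⟩ := K_split M b
  rw [← QuotientGroup.eq]
  simp only [QuotientGroup.mk_mul, h, one_mul]
  rw [← QuotientGroup.mk_mul, ← QuotientGroup.mk_mul, ← map_mul, ← map_mul,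
    show t * t' = t' * t from Subtype.ext (D.T_comm ht ht')]

/-- the map from `U^F` to `S` -/
noncomputable def jU : UH D →* S :=
  (prK M).comp (((GF F G).subtype.comp (UH D).subtype).codRestrict _ fun u => md_U M ⟨u.2, u.1.2⟩)

theorem exists_jU (u : UH D) : ∃ x, ι x = (u : GF F G) ∧ jU M u = pr x := by
  obtain ⟨x, hx⟩ := md_U M (u := (u : GF F G)) ⟨u.2, u.1.2⟩
  exact ⟨x, hx, by rw [← prK_apply M x ⟨x, rfl⟩]; exact congrArg (prK M) (Subtype.ext hx.symm)⟩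

/-- a Galois conjugate constituent is equal to the given one -/
theorem fix_of_res [Finite S] [Fintype (GF F G)] (hZ : center S = ⊥) {ψ : (kp M).range → ℂ} (hψ : OddIrr ψ)
    {θ : S → ℂ} (hθ : IsIrrCharacter S θ) [Fintype S] (h0 : classInner (fun s => ψ (iK M s)) θ ≠ 0) {σ : ℂ ≃+* ℂ}
    (hσ : Sig σ) (h : Fix σ fun s => ψ (iK M s)) : Fix σ θ := by
  have := iK_normal M
  have := Fintype.ofFinite (kp M).range
  have := Fintype.ofFinite (UH D)
  have := Fintype.ofFinite (Ob D)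
  have hcon : ∀ η, IsIrrCharacter S η → classInner (fun s => ψ (iK M s)) η ≠ 0 →
      ∃ t ∈ TH D, ∀ s, η s = θ (kp M t s) := fun η hη h1 => by
    obtain ⟨a, ha⟩ := exists_cj (iK_inj M hZ) hψ.1 hθ hη h0 h1
    obtain ⟨s, t, ht, rfl⟩ := K_split M a
    exact ⟨t, ht, fun x => (ha x _ (iK_conj M _ x)).trans (isIrr_isClassFunction hθ _ s)⟩
  obtain ⟨t, ht, h1⟩ := hcon _ (GaloisIrr.isIrr_map σ hθ) (by
    rw [← funext h, GaloisIrr.classInner_map σ (isIrr_isCharacter hθ)]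
    exact (map_ne_zero σ).2 h0)
  obtain ⟨lam, hl⟩ := exists_lam M.good.qs M.good.cz
  have h2 := oddIrr_comp (kp M).rangeRestrict_surjective hψ
  obtain ⟨n, hn, hn'⟩ := exists_k S
  refine fun s => (h1 s).trans (orbit (sys M.good.qs M.good.cz) hl (kp M) (jU M) (fun t _ u u' e => ?_)
    (mr_sq M.good h2.1 h2.2) (isCharacter_comp' (iK M) (isIrr_isCharacter hψ.1)) (fun u => ?_) hθ (fun t _ s => ?_)
    hcon ht (fun u => ?_) s)
  · obtain ⟨x, h3, h4⟩ := exists_jU M u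
    obtain ⟨x', h3', h4'⟩ := exists_jU M u'
    rw [h4, h4', kp_pr M (x' := x') (by rw [h3, h3', e]; rfl)]
  · obtain ⟨x, h3, h4⟩ := exists_jU M u
    rw [h4, rr_ι M h3]
  · exact (congrArg ψ (iK_conj M ((kp M).rangeRestrict t) s)).trans (isIrr_isClassFunction hψ.1 _ _)
  · have := fact2
    obtain ⟨x, h3, h4⟩ := exists_jU M u
    rw [← h1, map_eq_pow hσ hn hn' (isIrr_isCharacter hθ), hn]
    exact (IsPGroup.iff_orderOf.1 (mdQ M).isPGroup' ⟨_, (mem_mdQ M).2 ⟨x, h3 ▸ u.2, h4.symm⟩⟩).imp fun j hj => by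
      rwa [← orderOf_coe] at hj

include M

theorem ff_of [Finite S] [Fintype (GF F G)] (hZ : center S = ⊥) {A : Subgroup (MulAut S)} (h2 : IsPGroup 2 A)
    (hA : ∀ a ∈ A, ∃ α B, Au D α B ∧ C2.Ind ι pr α a)
    (h : ∀ χ : GF F G → ℂ, OddIrr χ → (∀ z : GF F G, (z : Y) ∈ Zc D → χ z = χ 1) →
      (∀ a ∈ A, ∀ α B (ha : Au D α B), C2.Ind ι pr α a → ∀ g, χ (ha.aut g) = χ g) →
      ∀ σ, Sig σ → ∀ g : GF F G, (g : Y) ∈ ι.range → σ (χ g) = χ g) : FF A := by
  intro θ hθ _ hi σ hσ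
  have := Fintype.ofFinite S
  have := Fintype.ofFinite (kp M).range
  have hN : A ≤ normalizer ((kp M).range : Set (MulAut S)) := fun a ha => mem_normalizer_fintype (by
    obtain ⟨α, B, h3, h4⟩ := hA a ha
    rintro _ ⟨g, rfl⟩
    exact ⟨_, kp_aut M h3 h4 g⟩)
  obtain ⟨ψ, h3, h4, h5⟩ := exists_up (iK_inj M hZ) (iK_odd M) hθ h2
    ((kp M).range.normalizerMonoidHom.comp (inclusion hN)) fun a s =>
      ⟨a.1 s, Subtype.ext (mul_conj_mul a.1 s), hi _ a.2 s⟩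
  refine fix_of_res M hZ h3 hθ.1 h4 hσ fun s => ?_
  obtain ⟨x, rfl⟩ := M.surj s
  beta_reduce
  rw [← rr_ι M (g := ⟨ι x, md_mem M x⟩) rfl]
  refine h _ (oddIrr_comp (kp M).rangeRestrict_surjective h3) (fun z hz => ?_) (fun a ha α B h6 h7 g => ?_) σ hσ _
    ⟨x, rfl⟩
  · exact congrArg ψ (Subtype.ext ((kp_Zc M hz).trans (map_one _).symm))
  · exact (congrArg ψ (Subtype.ext (kp_aut M h6 h7 g))).trans (h5 ⟨a, ha⟩ _)

theorem tw_of_ff [Finite S] [Fintype (GF F G)] (hZ : center S = ⊥) {A : Subgroup (MulAut S)} (h2 : IsPGroup 2 A)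
    (hF : FF A) {χ : GF F G → ℂ} (hχ : OddIrr χ) (hz : ∀ z : GF F G, (z : Y) ∈ Zc D → χ z = χ 1)
    (hA : ∀ a ∈ A, ∃ α B, ∃ ha : Au D α B, C2.Ind ι pr α a ∧ ∀ g, χ (ha.aut g) = χ g) {σ : ℂ ≃+* ℂ} (hσ : Sig σ) :
    ∃ β : GF F G →* ℂˣ, (∀ g : GF F G, (g : Y) ∈ ι.range → β g = 1) ∧ ∀ g, σ (χ g) = β g * χ g := by
  have := iK_normal M
  have := Fintype.ofFinite S
  have := Fintype.ofFinite (kp M).range
  obtain ⟨ψ, h3, h4⟩ := exists_quot (kp M).rangeRestrict (kp M).rangeRestrict_surjective hχ.1 fun z h =>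
    hz z (Zc_of_kp M hZ (congrArg Subtype.val h))
  obtain ⟨θ, h5, h6⟩ := exists_OC_inv (isCharacter_comp' (iK M) (isIrr_isCharacter h3))
    (odd_iff'.2 (by rw [charDegree_congr (ψ := χ) (by rw [map_one, ← h4, map_one])]; exact hχ.2)) h2 A.subtype
    fun a s => by
      obtain ⟨α, B, ha, h5, h6⟩ := hA _ a.2
      obtain ⟨x, rfl⟩ := M.surj s
      obtain ⟨x', h7, h8⟩ := h5 x
      rw [coe_subtype, h8, ← rr_ι M (g := ⟨ι x, md_mem M x⟩) rfl, h4, ← h6,
        ← rr_ι M (g := ha.aut ⟨ι x, md_mem M x⟩) h7.symm, h4]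
  have h7 : OddIrr θ := ⟨h5.1, odd_iff'.1 h5.2.1⟩
  have h8 := hF θ h7 ((md_noC M).inB0 h7) (fun a ha => h6 ⟨a, ha⟩) σ hσ
  obtain ⟨β, h9, h10⟩ := exists_tw (iK_inj M hZ) (iK_ab M) h3 (GaloisIrr.isIrr_map σ h3) h5.1 h5.ne_zero (by
    rw [← funext h8, GaloisIrr.classInner_map σ (isIrr_isCharacter h5.1)]
    exact (map_ne_zero σ).2 h5.ne_zero)
  refine ⟨β.comp (kp M).rangeRestrict, ?_, fun g => by rw [← h4, h10]; rfl⟩
  rintro g ⟨x, hx⟩
  rw [MonoidHom.comp_apply, rr_ι M hx, h9]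

end Cfsg.Agent.GAL.Two
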