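import Cfsg.Agent.GAL.Two.RowU

/-!
# S4617 / S4618, characteristic 2: the linear groups (helper10, GAL)

`row_psl`.
-/

set_option autoImplicit false
set_option linter.unusedSectionVars false

namespace Cfsg.Agent.GAL.Two

open Cfsg Subgroup Cfsg.Agent.DL Cfsg.Agent.DL.PP Cfsg.Agent.Tits.Roots Cfsg.Agent.GAL.C2 Cfsg.Agent.ODD.C2
  Cfsg.Agent.ODD.C2.GlA Cfsg.Agent.Nodes.RootsA Cfsg.Agent.ChevalleyStructure.CoxeterGeom Matrix

attribute [local instance] finite_WA

theorem box_psl (hB : Boxes) (F : Type) [Field F] [Fintype F] [CharP F 2] {n : ℕ}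
    (h : 2 ≤ n ∨ (n = 1 ∧ 4 ≤ Fintype.card F)) (hs : IsSimpleGroup (ProjectiveSpecialLinearGroup (Fin (n + 1)) F)) :
    Box (ProjectiveSpecialLinearGroup (Fin (n + 1)) F) := by
  obtain ⟨e, he, hF, _, hk⟩ := exists_setup F
  replace hk := DL.Ex.lf_of_locFin (p := 2) hk
  have h1 := embL (n := n) (algebraMap F (AlgebraicClosure F)) hF
  have h2 := fun y => mem_range_ιL (n := n) (y := y) (algebraMap F (AlgebraicClosure F)) hF
  have hp := perfect_sl h
  have hZ := center_of_perfect hs (QuotientGroup.mk'_surjective _) hp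
  have hσ := sigma_mn hk he (cs := csA n) (h := isCartan n) (mnA n).sy_one IsOfFinOrder.one (π := 1) fun _ => rfl
  have hφ := sym_mn hk he (cs := csA n) (h := isCartan n) (mnA n).sy_one IsOfFinOrder.one one_pos (mnA n).sy_one
    IsOfFinOrder.one (Commute.one_left _) (π := 1) fun _ => rfl
  have hψ := sym_mn hk he (mnA n).sy_one IsOfFinOrder.one one_pos (syA (n := n)) (Mn.fin_pm_it _)
    (Commute.one_right _) (π := Fin.revPerm) gA_sr
  have hS : Sit ((mnA n).dat (csA n) (isCartan n) hk he) (ιL n (algebraMap F _)) (QuotientGroup.mk' (center _)) 1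
      fun _ => True :=
    ⟨⟨goodL hk he, ⟨_, Mn.odd_two_pow_sub_one he, h1⟩, QuotientGroup.mk'_surjective _,
      fun s => QuotientGroup.eq_one_iff s, fun y hy h3 => (h2 y hy).2 (hom_Gd _ _ h3)⟩,
      Or.inr ⟨rfl, det_A hk he _ _ hp (m := (2 ^ e : ℕ)) (fun y => by rw [MulAut.one_apply, det_frA, zpow_natCast]) h2⟩,
      fun i => by rw [hσ]; exact ⟨rfl, rfl⟩, fun _ => Iff.rfl⟩
  have h3 : ∀ s, (1 * frA _ _ 1 : MulAut _) (ιL n (algebraMap F (AlgebraicClosure F)) s) ∈ (ιL n (algebraMap F _)).range :=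
    fun s => by rw [h2 _ (hφ.mem_GF (h1.mem s)), one_mul, det_frA, det_ιL, one_pow]
  have h4 := fun s => fix_mn (cs := csA n) (h := isCartan n) (mnA n).sy_one (pow_one _) (h1.mem s)
  rcases h with h | ⟨rfl, h⟩
  · refine hB.b2 hZ hS hφ hψ h3 (fun s => ?_) ((syA.commute 1).mul_left (Commute.refl _)).symm ?_
      (Equiv.ext Fin.rev_rev) (fun h5 => ?_) (fun _ => Iff.rfl) hσ (fun _ => rfl) (fun s => by simpa using h4 s)
      (card_aut_psl he hF h)
    · rw [h2 _ (hψ.mem_GF (h1.mem s)), MulAut.mul_apply, det_γA, det_frA, det_ιL, one_pow, inv_one]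
    · rw [(syA.commute 1).mul_pow, γA_sq, one_mul, one_mul]
    · have h6 : n - (0 + 1) = 0 := congrArg (fun π : Equiv.Perm (Fin n) => (π ⟨0, by omega⟩).val) h5
      omega
  · refine hB.b1 hZ hS hφ h3 (e := e) (l := 1) (0 : Fin 1) (fun _ => rfl) ?_ h4 ?_
    · rw [hσ]
      exact Function.minimalPeriod_id
    · rw [one_mul]
      refine card_aut_psl_two ?_ hF
      by_contra h5
      obtain rfl : e = 1 := by omega
      omega

/-- **the linear groups** -/
theorem row_psl (hB : Boxes) : RowG fun S _ => IsPSLChar 2 S := by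
  rintro S _ _ hS ⟨F, _, _, _, n, hn, h, ⟨e⟩⟩
  obtain ⟨n, rfl⟩ : ∃ m, n = m + 1 := ⟨n - 1, by omega⟩
  exact Box.congr e (box_psl hB F (by omega) e.symm.isSimpleGroup)

end Cfsg.Agent.GAL.Two
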