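import Cfsg.Agent.GAL.C2.Defs
import Cfsg.Agent.GAL.Nrm.Exc
import Cfsg.Agent.GAL.Rows
import Cfsg.Agent.ODD.C2.GlB
import Cfsg.Agent.ODD.C2.Exc

/-!
# S4617 / S4618, characteristic 2: the unitary groups (helper10, GAL)

`sym_mn`, `sigma_mn`, `hom_Gd`, `center_of_perfect` : tools for all matrix data; `det_A` ; `row_psu`.
-/

set_option autoImplicit false
set_option linter.unusedSectionVars false

namespace Cfsg.Agent.GAL.Two

open Cfsg Subgroup Cfsg.Agent.DL Cfsg.Agent.DL.PP Cfsg.Agent.Tits.Roots Cfsg.Agent.GAL.C2 Cfsg.Agent.ODD.C2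
  Cfsg.Agent.ODD.C2.GlA Cfsg.Agent.Nodes.RootsA Cfsg.Agent.ChevalleyStructure.CoxeterGeom Matrix

theorem center_of_perfect {X S : Type} [Group X] [Group S] (hs : IsSimpleGroup S) {pr : X →* S}
    (h : Function.Surjective pr) (hp : commutator X = ⊤) : center S = ⊥ :=
  Nrm.center_eq_bot hs fun hc => by
    have h1 := map_commutator_eq (G := X) pr
    rw [hp, MonoidHom.range_eq_top.2 h, ← MonoidHom.range_eq_map, MonoidHom.range_eq_top.2 h] at h1
    have h2 : (⁅⊤, ⊤⁆ : Subgroup S) = ⊥ := commutator_eq_bot_iff_le_centralizer.2 fun a _ =>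
      mem_centralizer_iff.2 fun b _ => hc.1.1 b a
    exact top_ne_bot (h1.trans h2)

theorem hom_Gd {k : Type} [Field k] [CharP k 2] {Y : Type} [Group Y] {N : Type} [Fintype N] [DecidableEq N]
    {ρ : Y →* GL N k} {F : MulAut Y} {G : Subgroup Y} [IsAlgClosed k] (D : Datum 2 ρ F G) (δ : Y →* kˣ) {y : Y}
    (hy : y ∈ Gd D) : δ y = 1 := by
  refine (Nodes.BNOf.RGD.Sup_le (K := δ.ker) fun a ha x hx => ?_) hy
  obtain ⟨u, rfl⟩ := (D.mem_X a ha x).1 hx
  refine eq_one_of_pow (m := 1) ?_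
  rw [pow_one, sq, ← map_mul, ← D.x_add a ha, CharTwo.add_self_eq_zero, D.x_zero ha, map_one]

section mn

variable {I : Type} [Fintype I] [DecidableEq I] {A : I → I → ℤ} {R N : Type} [Fintype R] [DecidableEq R] [Fintype N]
  [DecidableEq N] {m : Mn A R N} {k : Type} [Field k] [CharP k 2] {W : Type} [Group W] [Finite W]
  {M : CoxeterMatrix I} {cs : CoxeterSystem M W} {h : IsCartan M A} [IsAlgClosed k]
  (hk : ∀ a : k, ∃ j, 0 < j ∧ a ^ 2 ^ j = a) {e j : ℕ} (he : 0 < e) {α β : MulAut (GL N k)}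
  {g g' : (I → ℤ) → I → ℤ} {B B' : Matrix R R ℤ} (S : m.Sy cs h α g B) (hα : IsOfFinOrder α) {π : Equiv.Perm I}

theorem sigma_mn (hπ : ∀ i, g (sr i) = sr (π i)) : (m.datT hk he S hα).σ = π :=
  Equiv.ext (Datum.QSp.σ_eq (D := m.datT hk he S hα) (π := π) hπ)

theorem sym_mn (hj : 0 < j) (S' : m.Sy cs h β g' B') (hβ : IsOfFinOrder β) (hc : Commute β α)
    (hπ : ∀ i, g' (sr i) = sr (π i)) :
    Sym (m.datT hk he S hα) (β * frA N k j) (m.datT hk hj S' hβ).Mx π fun _ => j :=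
  Sym.of_withF (D := m.datT hk he S hα) (m.datT hk hj S' hβ).amb (m.datT hk hj S' hβ).g (m.datT hk hj S' hβ).ex
    (m.datT hk hj S' hβ).g_root (m.datT hk hj S' hβ).F_x (m.datT hk hj S' hβ).F_τ
    (fun y => DFunLike.congr_fun ((hc.mul_right (S'.commute e)).mul_left ((S.commute j).symm.mul_right (by
      have h1 := (Commute.refl (frA N k 1)).pow_pow j e
      rwa [frA_pow, frA_pow, mul_one, mul_one] at h1))).eq y) hπ fun _ => rfl

omit hα in
include S in
theorem fix_mn {d : ℕ} (hd : α ^ d = 1) {H : Subgroup (GL N k)} {y : GL N k} (hy : y ∈ GF (α * frA N k e) H) :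
    ((1 * frA N k 1) ^ (d * e)) y = y := by
  have h1 := Mn.Sy.fix_le m S hd e hy.2
  rw [← Mn.fix_frA] at h1
  rw [one_mul, frA_pow, mul_one]
  exact h1

end mn

attribute [local instance] finite_WA

theorem sum_A {n : ℕ} (a b : Fin (n + 1)) :
    ∑ i : Fin n, (if a.val ≤ i.val then (1 : ℤ) else 0) * cwA i b + 1 * (Pi.single (Fin.last n) 1 : _ → ℤ) b =
      if a = b then 1 else 0 := by
  have h1 := Fin.sum_univ_castSucc fun c : Fin (n + 1) => (if a ≤ c then (1 : ℤ) else 0) * if b = c then 1 else 0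
  have h2 := Fin.sum_univ_succ fun c : Fin (n + 1) => (if a < c then (1 : ℤ) else 0) * if b = c then 1 else 0
  simp only [mul_ite, mul_one, mul_zero, Finset.sum_ite_eq, Finset.mem_univ, if_true, Fin.not_lt_zero, if_false,
    ite_self, zero_add, Fin.le_last] at h1 h2
  simp only [Fin.le_def, Fin.lt_def, Fin.val_castSucc, Fin.val_succ, Nat.lt_succ_iff] at h1 h2
  simp only [cwA, Pi.sub_apply, Pi.single_apply, mul_sub, mul_ite, mul_one, mul_zero, Finset.sum_sub_distrib]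
  rw [← h2, sub_add_eq_add_sub, ← h1]
  split_ifs <;> omega

theorem det_A {n : ℕ} {k : Type} [Field k] [CharP k 2] [IsAlgClosed k] (hk : ∀ a : k, ∃ j, 0 < j ∧ a ^ 2 ^ j = a)
    {e : ℕ} (he : 0 < e) {α : MulAut (GL (Fin (n + 1)) k)} {g : (Fin n → ℤ) → Fin n → ℤ}
    {B : Matrix (Fin (n + 1)) (Fin (n + 1)) ℤ} (S : (mnA n).Sy (csA n) (isCartan n) α g B) (hα : IsOfFinOrder α)
    {X : Type} [Group X] {ι : X →* GL (Fin (n + 1)) k} (hp : commutator X = ⊤) {m : ℤ}
    (h1 : ∀ y, GeneralLinearGroup.det (α (frA _ k e y)) = GeneralLinearGroup.det y ^ m)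
    (h2 : ∀ y ∈ GF (α * frA _ k e) ((mnA n).G k (csA n) (isCartan n)), y ∈ ι.range ↔ GeneralLinearGroup.det y = 1) :
    Det ((mnA n).datT hk he S hα) ι where
  symm := fun i j : Fin n => show AA n i j = AA n j i by simp only [AA, eq_comm (a := i), or_comm]
  perf := hp
  ex := ⟨GeneralLinearGroup.det, 1, Pi.single (Fin.last n) 1, fun i j => if j.val ≤ i.val then 1 else 0, m, h1, det_τA,
    h2, (dotProduct_single (1 : Fin (n + 1) → ℤ) 1 _).trans (mul_one _), fun i j : Fin n =>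
      ((congrArg _ (wtA_sr j).symm).trans ((dotProduct_comm _ _).trans (czA (sr j) i))).trans (Pi.single_apply _ _ _),
    sum_A⟩

theorem box_psu (hB : Boxes) (F : Type) [Field F] [Fintype F] [CharP F 2] {n q : ℕ} (hF : Fintype.card F = q ^ 2)
    (hn : 2 ≤ n) (h : ¬ (n = 2 ∧ q = 2)) (hs : IsSimpleGroup (PSU (n + 1) F q)) : Box (PSU (n + 1) F q) := by
  obtain ⟨e, he, rfl, _, hk⟩ := exists_setup' F two_ne_zero hF
  replace hk := DL.Ex.lf_of_locFin (p := 2) hk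
  obtain ⟨ι, h1, h2, -⟩ := embU hk he n (algebraMap F _) hF
  have hp := perfect_su hF hn h
  have hσ := sigma_mn hk he (syA (n := n)) (Mn.fin_pm_it _) (π := Fin.revPerm) gA_sr
  have hφ := sym_mn hk he (syA (n := n)) (Mn.fin_pm_it _) one_pos (mnA n).sy_one IsOfFinOrder.one (Commute.one_left _)
    (π := 1) fun _ => rfl
  have := fact2
  refine hB.b1 (r := 1) (P := fun _ => True) (center_of_perfect hs (QuotientGroup.mk'_surjective _) hp)
    ⟨⟨goodU hk he, ⟨_, (Nat.even_pow.2 ⟨even_two, he.ne'⟩).add_one, h1⟩, QuotientGroup.mk'_surjective _,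
      fun s => QuotientGroup.eq_one_iff s, fun y hy h3 => (h2 y hy).2 (hom_Gd _ _ h3)⟩,
      Or.inr ⟨rfl, det_A hk he _ _ hp (m := -(2 ^ e : ℕ)) (fun y => ?_) h2⟩, fun i => ?_, fun _ => Iff.rfl⟩
    hφ (fun s => ?_) (e := e) (l := 2) (⟨0, by omega⟩ : Fin n) (fun _ => rfl) ?_
    (fun s => fix_mn syA γA_sq (h1.mem s)) (card_aut_psu he hF hn h)
  · rw [det_γA, det_frA, _root_.zpow_neg, zpow_natCast]
  · rw [hσ]
    exact ⟨Fin.rev_rev i, rfl⟩
  · rw [h2 _ (hφ.mem_GF (h1.mem s)), one_mul, det_frA, (h2 _ (h1.mem s)).1 ⟨s, rfl⟩, one_pow]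
  · rw [hσ]
    refine Function.minimalPeriod_eq_prime (Fin.rev_rev _) fun h3 => ?_
    have h4 : n - (0 + 1) = 0 := congrArg Fin.val h3
    omega

/-- **the unitary groups** -/
theorem row_psu (hB : Boxes) : RowG fun S _ => IsPSUChar 2 S := by
  rintro S _ _ hS ⟨F, _, _, _, n, q, hF, hn, h, ⟨e⟩⟩
  obtain ⟨n, rfl⟩ : ∃ m, n = m + 1 := ⟨n - 1, by omega⟩
  exact Box.congr e (box_psu hB F hF (by omega) (by omega) e.symm.isSimpleGroup)

end Cfsg.Agent.GAL.Two
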