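import Cfsg.Agent.GAL.Two.Grp
import Cfsg.Agent.GAL.C2.Defs

/-!
# S4617 / S4618, characteristic 2: the model `Md`, induced automorphisms, the four boxes (helper10, GAL)

* `mdQ` : the Sylow subgroup of the model; `mem_mdQ`, `md_noC`, `map_mdQ`;
* `exists_ind` : an automorphism which preserves the image of `ι` induces an automorphism of `S`;
* `not_inner_graph`, `not_inner_field`;
* `boxes_of : GenBox → Boxes`.
-/

set_option autoImplicit false
set_option linter.unusedSectionVars false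

namespace Cfsg.Agent.GAL.Two

open Cfsg Subgroup Cfsg.Agent.GAL.Nrm Cfsg.Agent.DL Cfsg.Agent.DL.PP Cfsg.Agent.DL.St Cfsg.Agent.Tits.Roots
  Cfsg.Agent.GAL.C2 Matrix

variable {k : Type} [Field k] [CharP k 2] {Y : Type} [Group Y] {N : Type} [Fintype N] [DecidableEq N]
  {ρ : Y →* GL N k} {F : MulAut Y} {G : Subgroup Y} [IsAlgClosed k] {D : Datum 2 ρ F G}
  {X S : Type} [Group X] [Group S] {ι : X →* Y} {pr : X →* S}

theorem md_inj (M : Md D ι pr) : Function.Injective ι := M.emb.choose_spec.2.inj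

theorem md_mem (M : Md D ι pr) (x : X) : ι x ∈ GF F G := M.emb.choose_spec.2.mem x

theorem md_U (M : Md D ι pr) {u : Y} (hu : u ∈ D.U ⊓ GF F G) : u ∈ ι.range :=
  M.sc u hu.2 (Nodes.BNOf.RGD.Sup_mono (fun _ ha => ha.1) hu.1)

/-- the quotient map on the image of `ι` -/
noncomputable def prK (M : Md D ι pr) : ι.range →* S :=
  pr.comp (MonoidHom.ofInjective (md_inj M)).symm.toMonoidHom

theorem prK_apply (M : Md D ι pr) (x : X) (h : ι x ∈ ι.range) : prK M ⟨ι x, h⟩ = pr x :=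
  congrArg pr ((MonoidHom.ofInjective (md_inj M)).symm_apply_apply x)

theorem cen_of_center (M : Md D ι pr) {s : X} (hs : s ∈ center X) : Cen G (ι s) := by
  have hc : ∀ y ∈ ι.range, y * ι s = ι s * y := by
    rintro _ ⟨x, rfl⟩
    rw [← map_mul, mem_center_iff.1 hs x, map_mul]
  obtain ⟨u, hu, t, ht, h1⟩ := exists_BF M.good.qs (md_mem M s) fun v hv => by
    rw [mul_assoc, hc v (md_U M hv), inv_mul_cancel_left]
    exact hv.1
  have h2 : Cen G t := cen_of_chi ht.1 fun i => by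
    obtain ⟨v, hv, h2⟩ := exists_regU M.good.qs
    have h3 := kap_conj_B hu.1 ht.1 hv.1 i
    rw [← h1, ← hc v (md_U M hv), mul_inv_cancel_right] at h3
    exact (mul_eq_right₀ (h2 i)).1 h3.symm
  obtain ⟨m, hm, hF⟩ := D.exists_rp_fix (map_w0 (cs := D.cs) (φ := D.Fw) M.good.qs.Fw_simple)
  obtain ⟨x, t', ht', h3⟩ := M.emb.choose_spec.2.split m ⟨hm.mem_G, hF⟩
  have h4 : u = 1 := by
    refine opp D ⟨_, hm⟩ hm.pr_eq hu.1 ?_
    have h5 : u * ι x = ι x * u := by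
      have h6 := hc _ ⟨x, rfl⟩
      rw [h1, mul_assoc u, ← h2 _ (md_mem M x).1, ← mul_assoc, ← mul_assoc] at h6
      exact (mul_right_cancel h6).symm
    have h6 := D.conj_mem_U_of_T (inv_mem ht'.1) hu.1
    rwa [h3, show (ι x * t')⁻¹ * u * (ι x * t') = t'⁻¹ * ((ι x)⁻¹ * (u * ι x)) * t'⁻¹⁻¹ by group, h5,
      inv_mul_cancel_left]
  rwa [h1, h4, one_mul]

theorem center_of_cen (M : Md D ι pr) {s : X} (hs : Cen G (ι s)) : s ∈ center X :=
  mem_center_iff.2 fun x => md_inj M (by rw [map_mul, map_mul, hs _ (md_mem M x).1])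

theorem md_cx (M : Md D ι pr) : Cx D ι.range (prK M) where
  qs := M.good.qs
  le := M.emb.choose_spec.2.range_le
  U_le _ := md_U M
  surj s := by
    obtain ⟨x, rfl⟩ := M.surj s
    exact ⟨⟨ι x, x, rfl⟩, prK_apply M x _⟩
  ker := by
    rintro ⟨y, hy⟩
    obtain ⟨x, rfl⟩ := id hy
    rw [prK_apply, M.ker]
    exact ⟨cen_of_center M, center_of_cen M⟩

theorem md_finX (M : Md D ι pr) : Finite X :=
  have := (md_cx M).finK
  Finite.of_equiv _ (MonoidHom.ofInjective (md_inj M)).symm.toEquiv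

theorem pr_eq_iff (M : Md D ι pr) (x y : X) : pr x = pr y ↔ Cen G ((ι x)⁻¹ * ι y) := by
  rw [← inv_mul_eq_one, ← map_inv, ← map_mul, M.ker, ← map_inv, ← map_mul]
  exact ⟨cen_of_center M, center_of_cen M⟩

/-- the Sylow subgroup of the model -/
noncomputable def mdQ (M : Md D ι pr) : Sylow 2 S := (md_cx M).Q

theorem mem_mdQ (M : Md D ι pr) {s : S} : s ∈ (mdQ M : Subgroup S) ↔ ∃ x, ι x ∈ D.U ∧ pr x = s := by
  constructor
  · rintro ⟨⟨_, x, rfl⟩, h1, rfl⟩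
    exact ⟨x, h1, (prK_apply M x _).symm⟩
  · rintro ⟨x, h1, rfl⟩
    exact ⟨⟨ι x, x, rfl⟩, h1, prK_apply M x _⟩

theorem md_noC (M : Md D ι pr) : NoC S := (md_cx M).noC

variable {α β : MulAut Y} {a b : MulAut S} {A B : Matrix D.R D.R ℤ} {π : Equiv.Perm D.I} {ε : D.I → ℕ}

theorem ind_K (M : Md D ι pr) (h : C2.Ind ι pr α a) : Two.Ind (prK M) α a := by
  rintro ⟨z, hz⟩
  obtain ⟨x, rfl⟩ := id hz
  obtain ⟨y, h1, h2⟩ := h x
  refine ⟨⟨y, h1.symm⟩, ?_⟩
  rw [prK_apply, h2, ← prK_apply M y ⟨y, rfl⟩]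
  exact congrArg _ (Subtype.ext h1.symm)

theorem map_mdQ (M : Md D ι pr) (hα : Au D α A) (h : C2.Ind ι pr α a) :
    ∀ q ∈ (mdQ M : Subgroup S), a q ∈ (mdQ M : Subgroup S) :=
  (md_cx M).map_Q (ind_K M h) fun u hu => (hα.memU u).2 hu

theorem ind_one : C2.Ind ι pr 1 1 := fun s => ⟨s, rfl, rfl⟩

theorem ind_mul (h : C2.Ind ι pr α a) (h' : C2.Ind ι pr β b) : C2.Ind ι pr (α * β) (a * b) := fun s => by
  obtain ⟨s', h1, h2⟩ := h' s
  obtain ⟨s'', h3, h4⟩ := h s'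
  exact ⟨s'', by rw [MulAut.mul_apply, h1, h3], by rw [MulAut.mul_apply, h2, h4]⟩

theorem ind_pow (h : C2.Ind ι pr α a) (n : ℕ) : C2.Ind ι pr (α ^ n) (a ^ n) := by
  induction n with
  | zero => simpa using ind_one
  | succ n ih =>
    rw [pow_succ, pow_succ]
    exact ind_mul ih h

theorem ind_eq (M : Md D ι pr) (h : C2.Ind ι pr α a) (h' : C2.Ind ι pr β b) (e : ∀ s, α (ι s) = β (ι s)) : a = b := by
  ext s
  obtain ⟨s, rfl⟩ := M.surj s
  obtain ⟨x, h1, h2⟩ := h s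
  obtain ⟨y, h3, h4⟩ := h' s
  rw [h2, h4, md_inj M (h1.symm.trans ((e s).trans h3))]

theorem exists_ind (M : Md D ι pr) (h : ∀ s, α (ι s) ∈ ι.range) : ∃ a, C2.Ind ι pr α a := by
  have := md_finX M
  have := (md_cx M).finS
  choose f hf using h
  have h1 : ∀ x y, f (x * y) = f x * f y := fun x y => md_inj M (by simp only [map_mul, hf])
  have h2 : Function.Surjective f := Finite.injective_iff_surjective.1 fun x y e =>
    md_inj M (α.injective (by rw [← hf, ← hf, e]))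
  have h3 : pr.ker ≤ (pr.comp (MonoidHom.mk' f h1)).ker := fun s hs => (M.ker _).2 (mem_center_iff.2 fun x => by
    obtain ⟨x, rfl⟩ := h2 x
    show f x * f s = f s * f x
    rw [← h1, ← h1, mem_center_iff.1 ((M.ker s).1 hs) x])
  set g := pr.liftOfRightInverse (Function.surjInv M.surj) (Function.rightInverse_surjInv M.surj) ⟨_, h3⟩ with hg
  have h4 : ∀ x, g (pr x) = pr (f x) := fun x => MonoidHom.liftOfRightInverse_comp_apply _ _ _ _ x
  have h5 : Function.Surjective g := fun s => by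
    obtain ⟨x, rfl⟩ := M.surj s
    obtain ⟨x, rfl⟩ := h2 x
    exact ⟨pr x, h4 x⟩
  exact ⟨MulEquiv.ofBijective g (Finite.surjective_iff_bijective.1 h5), fun s => ⟨f s, (hf s).symm, h4 s⟩⟩

/-! ### outer automorphisms -/

theorem kap_inner (M : Md D ι pr) (hZ : center S = ⊥) (hα : Au D α A) (h : C2.Ind ι pr α a) (hi : Inner a)
    (h2 : a ^ 2 = 1) {v : Y} (hv : v ∈ D.U ⊓ GF F G) (i : D.I) : kap D i (α v) = kap D i v :=
  (md_cx M).kap_of_inner hZ (ind_K M h) (fun u hu => (hα.memU u).2 hu) hi (n := 1) h2 hv i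

theorem exists_kap_mul (h : D.QS) : ∃ c : D.I → kˣ, ∀ s : D.I → k, FixT D.σ (fun i => D.ex (sr i)) s →
    ∃ v ∈ D.U ⊓ GF F G, ∀ i, kap D i v = c i * s i := by
  obtain ⟨c, hc⟩ := exists_fix_unit h
  exact ⟨c, fun s hs => exists_kap_fix h fun i => by rw [hc, hs i, mul_pow]; simp [mul_assoc]⟩

theorem not_inner_graph (M : Md D ι pr) (hZ : center S = ⊥) (hα : Sym D α A π ε) (h : C2.Ind ι pr α a)
    (h2 : a ^ 2 = 1) (hσ : D.σ = 1) (hπ : π ≠ 1) : ¬ Inner a := by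
  intro hi
  obtain ⟨j, hj⟩ : ∃ j, π j ≠ j := not_forall.1 fun h3 => hπ (Equiv.ext h3)
  obtain ⟨c, hc⟩ := exists_kap_mul M.good.qs
  obtain ⟨v, hv, h3⟩ := hc (Pi.single j 1) fun i => by
    rw [hσ, Equiv.Perm.one_apply, Pi.single_apply]
    split_ifs <;> simp
  obtain ⟨d, hd, h4⟩ := hα.kap j
  have h5 := kap_inner M hZ hα.au h hi h2 hv (π j)
  rw [h4 v hv.1, h3, h3, Pi.single_eq_same, Pi.single_eq_of_ne hj] at h5
  simp [hd] at h5

theorem exists_fixT {I : Type} [DecidableEq I] (σ : Equiv.Perm I) (j : I) {e l : ℕ} (hl : l ≠ 0)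
    (hj : Function.minimalPeriod σ j = l) {y : k} (hy : y ^ 2 ^ (l * e) = y) :
    ∃ s : I → k, FixT σ (fun _ => e) s ∧ s j = y := by
  have := fact2
  refine ⟨fun i => ∑ m ∈ Finset.range l, if σ^[m] j = i then y ^ 2 ^ (m * e) else 0, fun i => ?_, ?_⟩
  · have h1 := Finset.sum_range_succ' (fun m => if σ^[m] j = σ i then y ^ 2 ^ (m * e) else 0) l
    rw [Finset.sum_range_succ, ← hj, Function.iterate_minimalPeriod, hj, hy] at h1
    simp only [Function.iterate_zero, id, zero_mul, pow_zero, pow_one] at h1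
    show ∑ m ∈ Finset.range l, _ = (∑ m ∈ Finset.range l, _) ^ 2 ^ e
    rw [add_right_cancel h1, sum_pow_char_pow]
    refine Finset.sum_congr rfl fun m _ => ?_
    simp only [Function.iterate_succ_apply', EmbeddingLike.apply_eq_iff_eq]
    split_ifs
    · rw [← pow_mul, ← pow_add, add_mul, one_mul]
    · rw [zero_pow (by positivity)]
  · show ∑ m ∈ Finset.range l, _ = y
    rw [Finset.sum_eq_single 0 (fun m hm h0 => if_neg fun h1 => ?_) (by simp [hl])]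
    · simp
    · have h2 := Function.IsPeriodicPt.minimalPeriod_le (Nat.pos_of_ne_zero h0) h1
      have h3 := Finset.mem_range.1 hm
      omega

theorem exists_not_pow {i n : ℕ} (hi : 0 < i) (hin : i < n) : ∃ y : k, y ^ 2 ^ n = y ∧ y ^ 2 ^ i ≠ y := by
  have := fact2
  by_contra h
  push Not at h
  have h1 : Finite {a : k // a ^ 2 ^ i = a} := (finite_pow_eq hi).to_subtype
  have h2 := Nat.card_le_card_of_injective (fun y : {a : k // a ^ 2 ^ n = a} => (⟨y.1, h _ y.2⟩ : {a : k // a ^ 2 ^ i = a}))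
    fun x y e => Subtype.ext (congrArg (·.1) e)
  rw [card_pow_eq hi, card_pow_eq (hi.trans hin)] at h2
  exact absurd (Nat.pow_lt_pow_right one_lt_two hin) (not_lt.2 h2)

theorem not_inner_field (M : Md D ι pr) (hZ : center S = ⊥) {i : ℕ} (hα : Sym D α A 1 fun _ => i)
    (h : C2.Ind ι pr α a) (h2 : a ^ 2 = 1) {e l : ℕ} (j : D.I) (he : ∀ i, D.ex (sr i) = e)
    (hj : Function.minimalPeriod D.σ j = l) (hi : 0 < i) (hin : i < l * e) : ¬ Inner a := by
  intro hin'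
  obtain ⟨c, hc⟩ := exists_kap_mul M.good.qs
  obtain ⟨d, -, h4⟩ := hα.kap j
  have key : ∀ y : k, y ^ 2 ^ (l * e) = y → d * (c j * y) ^ 2 ^ i = c j * y := fun y hy => by
    obtain ⟨s, h5, rfl⟩ := exists_fixT D.σ j (by rintro rfl; simp at hin) hj hy
    obtain ⟨v, hv, h3⟩ := hc s (by simpa only [he] using h5)
    have h6 := kap_inner M hZ hα.au h hin' h2 hv j
    rwa [show kap D j (α v) = _ from h4 v hv.1, h3] at h6
  obtain ⟨y, hy, h5⟩ := exists_not_pow (k := k) hi hin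
  have h6 := key 1 (one_pow _)
  have h7 := key y hy
  rw [mul_one] at h6
  rw [mul_pow, ← mul_assoc, h6] at h7
  exact h5 (mul_left_cancel₀ (c j).ne_zero h7)

/-! ### the four boxes -/

theorem sym_pow {c : ℕ} (h : Sym D α A 1 fun _ => c) (n : ℕ) : Sym D (α ^ n) (A ^ n) 1 fun _ => c * n := by
  induction n with
  | zero => simpa using Sym.one
  | succ n ih => simpa [pow_succ, mul_add, add_comm] using ih.mul h

theorem out_dvd [Finite S] (hZ : center S = ⊥) {n m : ℕ} (h : Nat.card (MulAut S) = Nat.card S * n * m) :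
    n ≠ 0 ∧ Nat.card (Out S) ∣ n * m := by
  refine ⟨fun h0 => ?_, ?_⟩
  · rw [h0, mul_zero, zero_mul] at h
    exact Nat.card_pos.ne' h
  · rw [card_out hZ, mul_assoc, mul_comm] at h
    rw [Nat.eq_of_mul_eq_mul_left Nat.card_pos h]

theorem exists_nat_pow [Finite S] {x : MulAut S} (h : x ∈ zpowers a) : ∃ n : ℕ, x = a ^ n :=
  let ⟨n, hn⟩ := (isOfFinOrder_of_finite a).mem_powers_iff_mem_zpowers.2 h
  ⟨n, hn.symm⟩

theorem box0 (H : GenBox) : Box0 := by
  intro k _ _ Y _ N _ _ ρ F G _ D X S _ _ _ ι pr r P hZ hS ⟨m, hm, h⟩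
  refine H hZ hS ⊥ (fun a ha => ⟨1, 1, 1, _, Sym.one, mem_bot.1 ha ▸ ind_one, fun _ => ⟨rfl, rfl⟩, fun _ => Iff.rfl⟩) ?_
  rw [outOf, Subgroup.map_bot, index_bot]
  exact Odd.of_dvd_nat hm (one_mul m ▸ (out_dvd hZ (n := 1) (by rwa [mul_one])).2)

theorem box1 (H : GenBox) : Box1 := by
  intro k _ _ Y _ N _ _ ρ F G _ D X S _ _ _ ι pr r P hZ hS φ A hφ hr e l j he hj h1 ⟨m, hm, h⟩
  obtain ⟨a, ha⟩ := exists_ind hS.md hr
  obtain ⟨hn, hd⟩ := out_dvd hZ h
  have h2 : a ^ (l * e) = 1 := ind_eq hS.md (ind_pow ha _) ind_one h1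
  refine H hZ hS (zpowers a) (fun x hx => ?_) (odd_index_one hn h2 hm hd fun i hi => ?_)
  · obtain ⟨n, rfl⟩ := exists_nat_pow hx
    exact ⟨_, _, _, _, sym_pow hφ n, ind_pow ha n, fun _ => ⟨rfl, rfl⟩, fun _ => Iff.rfl⟩
  · exact not_inner_field hS.md hZ (sym_pow hφ i) (ind_pow ha i) (by rw [← pow_mul, mul_comm, hi, h2]) j he hj
      (by omega) (by omega)

theorem box2 (H : GenBox) : Box2 := by
  intro k _ _ Y _ N _ _ ρ F G _ D X S _ _ _ ι pr P hZ hS φ ψ A B π hφ hψ hr hr' hc hsq hππ hπ hP e hσ he h1 ⟨m, hm, h⟩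
  obtain ⟨a, ha⟩ := exists_ind hS.md hr
  obtain ⟨b, hb⟩ := exists_ind hS.md hr'
  obtain ⟨hn, hd⟩ := out_dvd hZ h
  obtain ⟨e, rfl⟩ := Nat.exists_eq_succ_of_ne_zero (n := e) (by omega)
  have h2 : a ^ (e + 1) = 1 := ind_eq hS.md (ind_pow ha _) ind_one h1
  have h3 : Commute a b := ind_eq hS.md (ind_mul ha hb) (ind_mul hb ha) fun s => by rw [hc.eq]
  have h4 : b ^ 2 = a ^ 2 := ind_eq hS.md (ind_pow hb 2) (ind_pow ha 2) fun s => by rw [hsq]
  have h5 : ∀ n, 2 * n % (e + 1) = 2 * e % (e + 1) → (a ^ n * b) ^ 2 = 1 := fun n hn => by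
    rw [(h3.pow_left n).mul_pow, h4, ← pow_mul, mul_comm n, pow_eq_pow_mod _ h2, hn, ← pow_eq_pow_mod _ h2, ← pow_add,
      show 2 * e + 2 = (e + 1) * 2 by ring, pow_mul, h2, one_pow]
  have h6 : ∀ n, Sym D (φ ^ n * ψ) (A ^ n * B) π fun _ => 1 + 1 * n := fun n => by
    simpa only [one_mul π] using (sym_pow hφ n).mul hψ
  have h7 : ∀ n, 2 * n % (e + 1) = 2 * e % (e + 1) → ¬ Inner (a ^ n * b) := fun n hn =>
    not_inner_graph hS.md hZ (h6 n) (ind_mul (ind_pow ha n) hb) (h5 n hn) hσ hπ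
  have h8 : Commute a (a ^ e * b) := ((Commute.refl a).pow_right e).mul_right h3
  refine H hZ hS (closure {a, a ^ e * b}) (fun x hx => ?_)
    (odd_index_two e.succ_ne_zero h2 (h5 e rfl) h8 hm hd (h7 e rfl) fun i hi => ⟨?_, ?_⟩)
  · obtain ⟨n, rfl | rfl⟩ := mem_closure_two e.succ_ne_zero h2 (h5 e rfl) h8 hx
    · exact ⟨_, _, _, _, sym_pow hφ n, ind_pow ha n, fun _ => ⟨rfl, rfl⟩, fun _ => Iff.rfl⟩
    · rw [← mul_assoc, ← pow_add]
      exact ⟨_, _, _, _, h6 _, ind_mul (ind_pow ha _) hb, fun i => ⟨congrFun (congrArg DFunLike.coe hππ) i, rfl⟩, hP⟩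
  · obtain ⟨j, -⟩ : ∃ j, π j ≠ j := not_forall.1 fun h9 => hπ (Equiv.ext h9)
    exact not_inner_field hS.md hZ (sym_pow hφ i) (ind_pow ha i) (by rw [← pow_mul, mul_comm, hi, h2]) (l := 1) j he
      (by rw [hσ]; exact Function.minimalPeriod_id) (by omega) (by omega)
  · rw [← mul_assoc, ← pow_add]
    exact h7 _ (by rw [mul_add, hi, Nat.succ_eq_add_one, Nat.add_mod_left])

theorem box3 (H : GenBox) : Box3 := by
  intro k _ _ Y _ N _ _ ρ F G _ D X S _ _ _ ι pr π P hZ hS ψ B ε hψ hr hππ hπ hε hP e hσ he h1 ⟨m, hm, h⟩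
  obtain ⟨b, hb⟩ := exists_ind hS.md hr
  obtain ⟨hn, hd⟩ := out_dvd hZ h
  have h0 : ∀ i, π (π i) = i := fun i => congrFun (congrArg DFunLike.coe hππ) i
  have h2 : b ^ (2 * e) = 1 := ind_eq hS.md (ind_pow hb _) ind_one h1
  have h3 : Sym D (ψ ^ 2) (B * B) 1 fun _ => 1 := by simpa only [hππ, hε, sq] using hψ.mul hψ
  have h4 : ∀ n, Sym D (ψ ^ (2 * n)) ((B * B) ^ n) 1 fun _ => 1 * n := fun n => by
    rw [pow_mul]
    exact sym_pow h3 n
  have h5 : ∀ n, Sym D (ψ ^ (2 * n + 1)) ((B * B) ^ n * B) π fun i => ε i + 1 * n := fun n => by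
    simpa only [one_mul π, pow_succ] using (h4 n).mul hψ
  refine H hZ hS (zpowers b) (fun x hx => ?_) (odd_index_one hn h2 hm hd fun i hi => ?_)
  · obtain ⟨n, rfl⟩ := exists_nat_pow hx
    obtain ⟨n, rfl | rfl⟩ := Nat.even_or_odd' n
    · exact ⟨_, _, _, _, h4 n, ind_pow hb _, fun _ => ⟨rfl, rfl⟩, fun _ => Iff.rfl⟩
    · exact ⟨_, _, _, _, h5 n, ind_pow hb _, fun i => ⟨h0 _, by simp only [h0]⟩, hP⟩
  · have h6 : (b ^ i) ^ 2 = 1 := by rw [← pow_mul, mul_comm, hi, h2]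
    obtain ⟨n, rfl | rfl⟩ := Nat.even_or_odd' i
    · obtain ⟨j, -⟩ : ∃ j, π j ≠ j := not_forall.1 fun h9 => hπ (Equiv.ext h9)
      exact not_inner_field hS.md hZ (h4 n) (ind_pow hb _) h6 (l := 1) j he
        (by rw [hσ]; exact Function.minimalPeriod_id) (by omega) (by omega)
    · exact not_inner_graph hS.md hZ (h5 n) (ind_pow hb _) h6 hσ hπ

/-- **the four boxes from the generic theorem** -/
theorem boxes_of (H : GenBox) : Boxes := ⟨box0 H, box1 H, box2 H, box3 H⟩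

end Cfsg.Agent.GAL.Two
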