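import Cfsg.Agent.GAL.Two.Bx

/-!
# S4617 / S4618, characteristic 2: `DDA` in coordinates (helper10, GAL)

* `cot D x` : the element `∏ α_i^∨ (x i)` of the torus;
* `XA D ι pr r P A x` : `x` is fixed by `F` and by `A`;
* `dda_iff` : `DDA Q A` holds iff all `x` in `XA` are central; `XA.eq_one` : with `Sep` they are then trivial.
-/

set_option autoImplicit false
set_option linter.unusedSectionVars false

namespace Cfsg.Agent.GAL.Two

open Cfsg Subgroup Cfsg.Agent.GAL.Nrm Cfsg.Agent.DL Cfsg.Agent.DL.PP Cfsg.Agent.DL.St Cfsg.Agent.Tits.Roots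
  Cfsg.Agent.GAL.C2 Cfsg.Agent.ChevalleyStructure.CoxeterGeom Matrix
open scoped commutatorElement

variable {k : Type} [Field k] [CharP k 2] {Y : Type} [Group Y] {N : Type} [Fintype N] [DecidableEq N]
  {ρ : Y →* GL N k} {F : MulAut Y} {G : Subgroup Y} [IsAlgClosed k] {D : Datum 2 ρ F G}
  {X S : Type} [Group X] [Group S] {ι : X →* Y} {pr : X →* S}
  {α β : MulAut Y} {a : MulAut S} {M : Matrix D.R D.R ℤ} {π : Equiv.Perm D.I} {ε : D.I → ℕ}

variable (D) in
/-- the coordinates of `∏ α_i^∨ (x i)` -/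
def cot (x : D.I → kˣ) : D.R → kˣ := ∏ i, coch (D.cw i) (x i)

theorem chr_cot (η : D.R → ℤ) (x : D.I → kˣ) : chr η (cot D x) = chr (fun i => η ⬝ᵥ D.cw i) x := by
  rw [cot, map_prod, chr_apply]
  exact Finset.prod_congr rfl fun i _ => chr_coch _ _ _

theorem chr_wt_cot (j : D.I) (x : D.I → kˣ) : chr (D.wt (sr j)) (cot D x) = chr (fun i => D.A i j) x := by
  rw [chr_cot]
  congr 2
  funext i
  exact (D.pair i (sr j)).trans ((pairing_single D.A i j 1).trans (mul_one _))

theorem τ_coch_mem (i : D.I) (u : kˣ) : D.τ (coch (D.cw i) u) ∈ Gd D := by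
  obtain ⟨c₁, c₂, -, -, t₀, -, h⟩ := D.rank_one i
  have h1 : ∀ {b : D.I → ℤ}, D.Rt b → ∀ c, D.x b c ∈ Gd D := fun hb c => Nodes.BNOf.RGD.le_Sup hb (D.x_mem hb c)
  have hi := isRoot_sr D.cs D.h i
  have h2 : ∀ v : kˣ, D.τ (coch (D.cw i) v⁻¹) * t₀ * D.n i ∈ Gd D := fun v => by
    have h3 := mul_mem (mul_mem (inv_mem (h1 hi (c₁ * (v⁻¹ : kˣ)))) (h1 hi.neg v)) (inv_mem (h1 hi (c₂ * (v⁻¹ : kˣ))))
    rwa [h v, mul_assoc, mul_assoc, mul_inv_cancel, mul_one, mul_assoc, inv_mul_cancel_left] at h3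
  have h3 := mul_mem (h2 u⁻¹) (inv_mem (h2 1))
  rwa [inv_inv, inv_one, map_one, map_one, one_mul, mul_assoc _ t₀, mul_inv_cancel_right] at h3

theorem τ_cot_mem (x : D.I → kˣ) : D.τ (cot D x) ∈ Gd D :=
  Subgroup.prod_mem ((Gd D).comap D.τ) fun i _ => τ_coch_mem i (x i)

theorem mon_cot (h : Sym D α M π ε) (x : D.I → kˣ) :
    mon M (cot D x) = cot D fun i => x (π.symm i) ^ 2 ^ ε (π.symm i) := by
  rw [cot, cot, map_prod, ← Equiv.prod_comp π fun i => coch (D.cw i) _]
  refine Finset.prod_congr rfl fun i _ => ?_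
  rw [mon_coch, h.cw, coch_zsmul, Equiv.symm_apply_apply]
  norm_cast

theorem fixT_iff {x : D.I → kˣ} : FixT π ε (fun i => (x i : k)) ↔ (fun i => x (π.symm i) ^ 2 ^ ε (π.symm i)) = x := by
  constructor
  · refine fun h => funext fun i => Units.ext ?_
    have h1 := h (π.symm i)
    simp only [Equiv.apply_symm_apply] at h1
    rw [h1, Units.val_pow_eq_pow_val]
  · intro h i
    have h1 := congrFun h (π i)
    simp only [Equiv.symm_apply_apply] at h1
    simp only [← h1, Units.val_pow_eq_pow_val]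

theorem fix_cot (h : Sym D α M π ε) {x : D.I → kˣ} (hx : FixT π ε fun i => (x i : k)) :
    α (D.τ (cot D x)) = D.τ (cot D x) := by rw [h.au.tau, mon_cot h, fixT_iff.1 hx]

theorem chr_wt_mon (h : Sym D α M π ε) (c : D.R → kˣ) (i : D.I) :
    chr (D.wt (sr (π i))) (mon M c) = chr (D.wt (sr i)) c ^ 2 ^ ε i := by
  rw [chr_mon, h.wt, chr_zsmul]
  norm_cast

theorem cen_τ_iff {c : D.R → kˣ} : Cen G (D.τ c) ↔ ∀ j, chr (D.wt (sr j)) c = 1 := by
  simp only [cen_iff_chi (D.τ_mem c), D.χ_τ, Units.val_eq_one]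

theorem chr_mon_of_fix (Md : Md D ι pr) (h : Au D α M) (hi : C2.Ind ι pr α a) {s : X} {c : D.R → kˣ}
    (hs : ι s = D.τ c) (ha : a (pr s) = pr s) (j : D.I) : chr (D.wt (sr j)) (mon M c) = chr (D.wt (sr j)) c := by
  obtain ⟨s', h1, h2⟩ := hi s
  have h3 := (pr_eq_iff Md s s').1 (ha.symm.trans h2)
  rw [← h1, hs, h.tau, ← map_inv, ← map_mul, cen_τ_iff] at h3
  have h4 := h3 j
  rw [map_mul, map_inv, inv_mul_eq_one] at h4
  exact h4.symm

/-- for perfect `X` the automorphism of `X` is determined by the induced automorphism of `S` -/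
theorem ind_unique (Md : Md D ι pr) (hp : commutator X = ⊤) (h : C2.Ind ι pr α a) (h' : C2.Ind ι pr β a) (s : X) :
    α (ι s) = β (ι s) := by
  have h1 : ∀ x, ∃ y z, α (ι x) = ι y ∧ β (ι x) = ι y * ι z ∧ z ∈ center X := fun x => by
    obtain ⟨y, h1, h2⟩ := h x
    obtain ⟨y', h3, h4⟩ := h' x
    refine ⟨y, y⁻¹ * y', h1, by rw [h3, ← map_mul, mul_inv_cancel_left], (Md.ker _).1 ?_⟩
    rw [map_mul, map_inv, ← h2, ← h4, inv_mul_cancel]
  have h2 : commutator X ≤ (α.toMonoidHom.comp ι).eqLocus (β.toMonoidHom.comp ι) := by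
    rw [commutator_eq_closure, closure_le]
    rintro _ ⟨x, y, rfl⟩
    obtain ⟨x', z, h3, h4, h5⟩ := h1 x
    obtain ⟨y', w, h6, h7, h8⟩ := h1 y
    show α (ι ⁅x, y⁆) = β (ι ⁅x, y⁆)
    rw [map_commutatorElement, map_commutatorElement, map_commutatorElement, h3, h4, h6, h7, ← map_mul, ← map_mul,
      ← map_commutatorElement, ← map_commutatorElement]
    congr 1
    have h9 := fun g => mem_center_iff.1 h5 g
    have h10 := fun g => mem_center_iff.1 h8 g
    rw [commutatorElement_def, commutatorElement_def, mul_assoc x' z, ← h9, ← mul_assoc x', _root_.mul_inv_rev x' z,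
      ← mul_assoc _ z⁻¹, mul_inv_cancel_right, ← mul_assoc x', mul_assoc _ w, ← h10, ← mul_assoc, _root_.mul_inv_rev y' w,
      ← mul_assoc, mul_inv_cancel_right]
  exact h2 (hp ▸ mem_top s)

variable (D ι pr) in
/-- the points which are fixed by `F` and by `A` -/
def XA (r : Equiv.Perm D.I) (P : D.I → Prop) (A : Subgroup (MulAut S)) (x : D.I → kˣ) : Prop :=
  FixT D.σ (fun i => D.ex (sr i)) (fun i => (x i : k)) ∧ ∀ a ∈ A, ∀ α M π ε, Sym D α M π ε → C2.Ind ι pr α a →
    Cr r π ε → (∀ i, P (π i) ↔ P i) → FixT π ε fun i => (x i : k)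

variable {r : Equiv.Perm D.I} {P : D.I → Prop} {A : Subgroup (MulAut S)}

theorem fixT_ite {I : Type} {π : Equiv.Perm I} {ε : I → ℕ} {x : I → kˣ} (h : FixT π ε fun i => (x i : k))
    {P : I → Prop} [DecidablePred P] (hP : ∀ i, P (π i) ↔ P i) :
    FixT π ε fun i => ((if P i then x i else 1 : kˣ) : k) := fun i => by
  by_cases h1 : P i
  · simpa only [if_pos h1, if_pos ((hP i).2 h1)] using h i
  · simp only [if_neg h1, if_neg (mt (hP i).1 h1), Units.val_one, one_pow]

/-- with `Sep`, if all points of `XA` are central, they are trivial -/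
theorem XA.eq_one (hs : Sep k D.A P) (hst : ∀ i, P (D.σ i) ↔ P i)
    (h : ∀ x, XA D ι pr r P A x → ∀ j, chr (fun i => D.A i j) x = 1) {x : D.I → kˣ} (hx : XA D ι pr r P A x) :
    x = 1 := by
  classical
  have h1 := hs.t1 _ (h (fun i => if P i then x i else 1) ⟨fixT_ite hx.1 hst, fun a ha α M π ε h1 h2 h3 h4 =>
    fixT_ite (hx.2 a ha α M π ε h1 h2 h3 h4) h4⟩) fun i hi => if_neg hi
  have h2 := hs.t0 _ (h (fun i => if ¬ P i then x i else 1) ⟨fixT_ite hx.1 fun i => (hst i).not,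
    fun a ha α M π ε h1 h2 h3 h4 => fixT_ite (hx.2 a ha α M π ε h1 h2 h3 h4) fun i => (h4 i).not⟩)
    fun i hi => if_neg (not_not.2 hi)
  funext i
  by_cases hi : P i
  · simpa only [if_pos hi] using congrFun h1 i
  · simpa only [if_pos hi] using congrFun h2 i

/-- **`DDA` in coordinates** -/
theorem dda_iff (hS : Sit D ι pr r P) (h2 : IsPGroup 2 A) (hA : ∀ a ∈ A, Al D ι pr r P a) :
    DDA (mdQ hS.md) A ↔ ∀ x, XA D ι pr r P A x → ∀ j, chr (fun i => D.A i j) x = 1 := by
  have hF := Sym.self hS.md.good.qs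
  rw [mdQ, (md_cx hS.md).dda_iff' fun a ha => by
    obtain ⟨α, M, π, ε, h1, h3, -⟩ := hA a ha
    exact ⟨α, ind_K hS.md h3, fun u hu => (h1.au.memU u).2 hu, fun t ht => (h1.au.memT t).2 ht⟩]
  constructor
  · intro h x hx j
    obtain ⟨s, hs⟩ := hS.md.sc _ ⟨D.T_le_G (D.τ_mem _), fix_cot hF hx.1⟩ (τ_cot_mem x)
    have h0 : ι s ∈ D.T := hs ▸ D.τ_mem _
    have h1 : Cen G (ι s) := h ⟨ι s, s, rfl⟩ h0 fun a ha => by
      obtain ⟨α, M, π, ε, h1, h3, h4, h5⟩ := hA a ha
      obtain ⟨s', h6, h7⟩ := h3 s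
      rw [hs, fix_cot h1 (hx.2 a ha α M π ε h1 h3 h4 h5), ← hs] at h6
      rw [← md_inj hS.md h6] at h7
      exact (congrArg a (prK_apply hS.md s _)).trans (h7.trans (prK_apply hS.md s _).symm)
    rw [← chr_wt_cot]
    exact cen_τ_iff.1 (hs ▸ h1) j
  · rintro h ⟨t, ht'⟩ ht h1
    obtain ⟨s, rfl⟩ := id ht'
    obtain ⟨c, hc⟩ := (D.mem_T (ι s)).1 ht
    simp only [prK_apply] at h1
    show Cen G (ι s)
    rw [← hc, cen_τ_iff]
    have hcF : mon D.Mx c = c := D.τ_inj (by rw [← D.F_τ, hc]; exact (md_mem hS.md s).2)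
    rcases hS.br with hs | ⟨-, hd⟩
    · have h3 := XA.eq_one hs hS.st h (x := fun i => chr (D.wt (sr i)) c) ⟨fun i => ?_, fun a ha α M π ε h3 h4 _ _ i => ?_⟩
      · exact congrFun h3
      · show ((chr _ c : kˣ) : k) = _
        rw [← Units.val_pow_eq_pow_val, ← chr_wt_mon hF, hcF]
      · show ((chr _ c : kˣ) : k) = _
        rw [← Units.val_pow_eq_pow_val, ← chr_wt_mon h3, chr_mon_of_fix hS.md h3.au h4 hc.symm (h1 a ha)]
    · obtain ⟨δ, ν, v, ω, m, -, h3, h4, -, h5, h6⟩ := hd.ex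
      have := fact2
      have := (md_cx hS.md).finS
      have := Fintype.ofFinite A
      choose α M π ε hα hi _ using fun a : A => hA a a.2
      set c' := ∏ a : A, mon (M a) c with hc'
      have h7 : ∀ a : A, D.τ (mon (M a) c) ∈ ι.range := fun a => by
        obtain ⟨s', h7, -⟩ := hi a s
        exact ⟨s', by rw [← h7, ← hc, (hα a).au.tau]⟩
      have h8 : D.τ c' ∈ ι.range := Subgroup.prod_mem (ι.range.comap D.τ) fun a _ => h7 a
      have h9 : D.τ c' ∈ GF F G := (md_cx hS.md).le h8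
      have h10 : chr ν c' = 1 := by rw [← h3]; exact (h4 _ h9).1 h8
      set x : D.I → kˣ := fun i => chr (ω i) c' with hx
      have h11 : cot D x = c' := funext fun b => by
        rw [← chr_single b (cot D x), chr_cot, chr_apply]
        simp only [hx, ← chr_zsmul, ← chr_sum]
        rw [← mul_one (chr _ c'), ← _root_.one_zpow (v b), ← h10, ← chr_zsmul, ← chr_add, ← chr_single b c']
        congr 2
        funext a'
        simp only [Pi.add_apply, Finset.sum_apply, Pi.smul_apply, smul_eq_mul, single_dotProduct, one_mul,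
          Pi.single_apply, ← h6 a' b, mul_comm]
      have h12 : ∀ y, (fun i => chr (ω i) (cot D y)) = y := fun y => funext fun i => by
        rw [chr_cot, ← chr_single i y]
        congr 2
        funext j
        rw [h5, Pi.single_apply]
        simp only [eq_comm]
      have h13 : ∀ {β : MulAut Y} {B π' ε'}, Sym D β B π' ε' → mon B c' = c' → FixT π' ε' fun i => (x i : k) :=
        fun hβ hB => fixT_iff.2 (by rw [← h12 fun i => _ ^ _, ← mon_cot hβ, h11, hB])
      have h14 := h x ⟨h13 hF (D.τ_inj (by rw [← D.F_τ]; exact h9.2)), fun b hb β B π' ε' hβ hb' _ _ => h13 hβ (by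
        rw [hc', map_prod, ← Equiv.prod_comp (Equiv.mulLeft (⟨b, hb⟩ : A)) fun a => mon (M a) c]
        refine Finset.prod_congr rfl fun a _ => D.τ_inj ?_
        rw [← hβ.au.tau, ← (hα a).au.tau, ← (hα _).au.tau, hc]
        exact ind_unique hS.md hd.perf (ind_mul hb' (hi a)) (hi _) s)⟩
      intro j
      have h15 := h14 j
      rw [← chr_wt_cot, h11, hc', map_prod, Finset.prod_congr rfl fun a _ =>
        chr_mon_of_fix hS.md (hα a).au (hi a) hc.symm (h1 a a.2) j, Finset.prod_const, Finset.card_univ] at h15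
      obtain ⟨n, hn⟩ := h2.exists_card_eq
      rw [← Nat.card_eq_fintype_card, hn] at h15
      exact C2.eq_one_of_pow h15

end Cfsg.Agent.GAL.Two
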