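import Cfsg.Agent.GAL.Two.Red
import Cfsg.Agent.DL.PP.Cor

/-!
# S4617 / S4618, characteristic 2: the group side for a Deligne-Lusztig datum (helper10, GAL)

`Cx D K π` : `K` is a subgroup of `G^F` which contains `U^F`, and `π : K →* S` is onto with kernel `K ∩ Z(G)`.

* `Cen G t` : `t` commutes with `G`; `cen_iff_chi`;
* `Cx.Q` : the Sylow subgroup `π (U^F)`; `Cx.exists_norm` : its normalizer is `π (B^F ∩ K)`; `Cx.noC`;
* `Ind π α r` : `α` induces `r`; `Cx.dda_iff` : `DDA` in terms of the torus `T ∩ K`;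
* `Cx.kap_of_inner` : an inner automorphism of 2-power order which normalizes `Q` fixes the coordinates `kap`.
-/

set_option autoImplicit false
set_option linter.unusedSectionVars false

namespace Cfsg.Agent.GAL.Two

open Cfsg Subgroup Cfsg.Agent.GAL.Nrm Cfsg.Agent.DL Cfsg.Agent.DL.PP Cfsg.Agent.DL.St Cfsg.Agent.Tits.Roots

universe u

variable {k : Type} [Field k] [CharP k 2] {Y : Type} [Group Y] {N : Type} [Fintype N] [DecidableEq N]
  {ρ : Y →* GL N k} {F : MulAut Y} {G : Subgroup Y} [IsAlgClosed k] {D : Datum 2 ρ F G}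

/-- `t` commutes with `G` -/
def Cen (G : Subgroup Y) (t : Y) : Prop := ∀ g ∈ G, g * t = t * g

theorem Cen.one : Cen G 1 := fun g _ => by rw [mul_one, one_mul]

theorem Cen.mul {s t : Y} (hs : Cen G s) (ht : Cen G t) : Cen G (s * t) := fun g hg => by
  rw [← mul_assoc, hs g hg, mul_assoc, ht g hg, mul_assoc]

theorem Cen.inv {t : Y} (ht : Cen G t) : Cen G t⁻¹ := fun g hg => by
  rw [mul_inv_eq_iff_eq_mul, mul_assoc, ht g hg, inv_mul_cancel_left]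

theorem Cen.pow {t : Y} (ht : Cen G t) (n : ℕ) : Cen G (t ^ n) := fun g hg =>
  (Commute.pow_right (ht g hg) n).eq

theorem Cen.mem_T {t : Y} (ht : Cen G t) (D : Datum 2 ρ F G) (hG : t ∈ G) : t ∈ D.T := by
  rw [← D.centralizer_T]
  exact ⟨hG, mem_centralizer_iff.2 fun s hs => ht s (D.T_le_G hs)⟩

theorem cen_of_chi {t : Y} (ht : t ∈ D.T) (h : ∀ i, D.χ (sr i) t = 1) : Cen G t := by
  have h1 : ∀ a, D.χ a t = 1 := fun a => by
    rw [D.eq_sum_sr a]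
    induction (Finset.univ : Finset D.I) using Finset.induction_on with
    | empty => exact D.χ_zero t
    | insert i s hi ih => rw [Finset.sum_insert hi, D.χ_add, ih, D.χ_zsmul, h, one_zpow, mul_one]
  have h2 : D.cen {t} ≤ centralizer {t} := D.cen_le_centralizer (Set.singleton_subset_iff.2 ht)
  have h3 : G ≤ D.cen {t} := by
    refine D.G_eq.ge.trans ?_
    have h4 : {a | D.Rt a} ⊆ D.Sz {t} := fun a ha => ⟨ha, fun z hz => by rw [hz]; exact h1 a⟩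
    exact sup_le_sup_left (Nodes.BNOf.RGD.Sup_mono h4) _
  exact fun g hg => (mem_centralizer_iff.1 (h2 (h3 hg)) t rfl).symm

theorem Cen.chi {t : Y} (ht : Cen G t) (hT : t ∈ D.T) {a : D.I → ℤ} (ha : D.Rt a) : D.χ a t = 1 := by
  have h1 := D.tor' ha hT 1
  rw [← ht _ (D.X_le_G ha (D.x_mem ha 1)), mul_inv_cancel_right, mul_one] at h1
  exact (D.x_inj a ha h1).symm

theorem cen_iff_chi {t : Y} (ht : t ∈ D.T) : Cen G t ↔ ∀ i, D.χ (sr i) t = 1 :=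
  ⟨fun h i => h.chi ht (isRoot_sr _ _ i), cen_of_chi ht⟩

variable (D) in
theorem odd_T {t : Y} (ht : t ∈ D.T) : Odd (orderOf t) := by
  have := fact2
  rw [odd_iff']
  rintro ⟨m, hm⟩
  have h0 := (D.amb.isOfFinOrder t).orderOf_pos
  have h1 := eq_one_of_pow D (pow_mem ht m) (by rw [← pow_mul, mul_comm, ← hm, pow_orderOf_eq_one])
  have h2 := Nat.le_of_dvd (by omega) (orderOf_dvd_of_pow_eq_one h1)
  omega

variable (D) in
theorem pow_U {u : Y} (hu : u ∈ D.U) : ∃ n : ℕ, u ^ 2 ^ n = 1 :=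
  let ⟨n, hn⟩ := D.isPGroup_U ⟨u, hu⟩
  ⟨n, congrArg Subtype.val hn⟩

theorem eq_one_of_odd_two {H : Type*} [Group H] {z : H} (ho : Odd (orderOf z)) {n : ℕ} (h : z ^ 2 ^ n = 1) : z = 1 :=
  orderOf_eq_one_iff.1 (Nat.eq_one_of_dvd_coprimes (ho.coprime_two_right.pow_right n) dvd_rfl
    (orderOf_dvd_of_pow_eq_one h))

/-- two 2-elements which differ by a central element are equal -/
theorem eq_of_cen (D : Datum 2 ρ F G) {a b : Y} (ha : a ∈ G) (hb : b ∈ G) (ha2 : ∃ n : ℕ, a ^ 2 ^ n = 1) (hb2 : ∃ n : ℕ, b ^ 2 ^ n = 1)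
    (h : Cen G (a⁻¹ * b)) : a = b := by
  obtain ⟨m, hm⟩ := ha2
  obtain ⟨n, hn⟩ := hb2
  have h1 : (a * (a⁻¹ * b)) ^ 2 ^ (m + n) = 1 := by rw [mul_inv_cancel_left, pow_add, mul_comm, pow_mul, hn, one_pow]
  rw [Commute.mul_pow (h a ha), pow_add 2 m, pow_mul a, hm, one_pow, one_mul, ← pow_add] at h1
  exact inv_mul_eq_one.1 (eq_one_of_odd_two (odd_T D (h.mem_T D (mul_mem (inv_mem ha) hb))) h1)

theorem exists_regU (h : D.QS) : ∃ u ∈ D.U ⊓ GF F G, ∀ i, kap D i u ≠ 0 := by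
  obtain ⟨a, ha⟩ := exists_fix_unit h
  obtain ⟨u, hu, h1⟩ := exists_kap_fix h (a := fun i => a i) fun i => by rw [ha]; simp
  exact ⟨u, hu, fun i => by rw [h1]; exact (a i).ne_zero⟩

/-- the normalizer of `U^F` in `G^F` is `U^F T^F` -/
theorem exists_BF (h : D.QS) {y : Y} (hy : y ∈ GF F G) (hn : ∀ u ∈ D.U ⊓ GF F G, y⁻¹ * u * y ∈ D.U) :
    ∃ u ∈ D.U ⊓ GF F G, ∃ t ∈ D.T ⊓ GF F G, y = u * t := by
  obtain ⟨v, hv, h1⟩ := exists_regU h
  obtain ⟨u, hu, t, ht, rfl⟩ := (mem_Par_empty D.sbn).1 (mem_B_of_reg hv.1 h1 hy.1 (hn v hv))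
  have h2 : F u * F t = u * t := by rw [← map_mul, (mem_GF.1 hy).2]
  have h3 : u⁻¹ * F u = t * (F t)⁻¹ := by rw [inv_mul_eq_iff_eq_mul, ← mul_assoc, ← h2, mul_inv_cancel_right]
  have h4 : u⁻¹ * F u = 1 := D.eq_one_of_mem_U_of_mem_T (mul_mem (inv_mem hu) ((h.F_mem_U u).2 hu))
    (h3 ▸ mul_mem ht (inv_mem (D.F_mem_T ht)))
  rw [h4] at h3
  exact ⟨u, ⟨hu, D.U_le_G hu, (inv_mul_eq_one.1 h4).symm⟩, t, ⟨ht, D.T_le_G ht, (mul_inv_eq_one.1 h3.symm).symm⟩, rfl⟩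

theorem kap_conj_B {u t v : Y} (hu : u ∈ D.U) (ht : t ∈ D.T) (hv : v ∈ D.U) (i : D.I) :
    kap D i (u * t * v * (u * t)⁻¹) = D.χ (sr i) t * kap D i v := by
  have h1 := D.conj_mem_U_of_T ht hv
  rw [show u * t * v * (u * t)⁻¹ = u * (t * v * t⁻¹) * u⁻¹ by group, kap_mul i (mul_mem hu h1) (inv_mem hu),
    kap_mul i hu h1, kap_inv i hu, kap_conj i ht hv]
  ring

variable (D) in
/-- `S` is the quotient of `K` by the centre, `U^F ≤ K ≤ G^F` -/
structure Cx {S : Type u} [Group S] (K : Subgroup Y) (π : K →* S) : Prop where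
  qs : D.QS
  le : K ≤ GF F G
  U_le : D.U ⊓ GF F G ≤ K
  surj : Function.Surjective π
  ker : ∀ x : K, π x = 1 ↔ Cen G x

/-- `α` induces `r` -/
def Ind {S : Type u} [Group S] {K : Subgroup Y} (π : K →* S) (α : MulAut Y) (r : MulAut S) : Prop :=
  ∀ x : K, ∃ hx : α x ∈ K, r (π x) = π ⟨α x, hx⟩

variable {S : Type u} [Group S] {K : Subgroup Y} {π : K →* S}

theorem Ind.one : Ind π 1 1 := fun x => ⟨x.2, rfl⟩

theorem Ind.mul {α β : MulAut Y} {r s : MulAut S} (h : Ind π α r) (h' : Ind π β s) : Ind π (α * β) (r * s) := by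
  intro x
  obtain ⟨h1, h2⟩ := h' x
  obtain ⟨h3, h4⟩ := h ⟨_, h1⟩
  exact ⟨h3, by rw [MulAut.mul_apply, h2, h4]; rfl⟩

theorem Ind.pow {α : MulAut Y} {r : MulAut S} (h : Ind π α r) (n : ℕ) : Ind π (α ^ n) (r ^ n) := by
  induction n with
  | zero => simpa using Ind.one
  | succ n ih =>
    rw [pow_succ, pow_succ]
    exact ih.mul h

namespace Cx

variable (C : Cx D K π)
include C

theorem finK : Finite K :=
  have := D.amb.finite_GF G
  Finite.of_injective _ (inclusion_injective C.le)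

theorem finS : Finite S :=
  have := C.finK
  Finite.of_surjective π C.surj

theorem eq_iff (x y : K) : π x = π y ↔ Cen G ((x : Y)⁻¹ * y) := by
  rw [← inv_mul_eq_one, ← map_inv, ← map_mul, C.ker]
  rfl

theorem eq_one_of_fix {α : MulAut Y} {r : MulAut S} (h : Ind π α r) (h1 : ∀ y ∈ GF F G, α y = y) : r = 1 := by
  ext s
  obtain ⟨x, rfl⟩ := C.surj s
  obtain ⟨hx, h2⟩ := h x
  rw [h2]
  exact congrArg π (Subtype.ext (h1 x (C.le x.2)))

theorem not_dvd_index : ¬ 2 ∣ (D.U.subgroupOf K).index := by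
  have := fact2
  have := D.amb.finite_GF G
  have e1 := Subgroup.subgroupOfEquivOfLe (inf_le_right : D.U ⊓ GF F G ≤ GF F G)
  have h1 := (Sylow.ofCard ((D.U ⊓ GF F G).subgroupOf (GF F G)) (by
    rw [Nat.card_congr e1.toEquiv,
      card_U D.sbn (aut_qs C.qs) (fun _ => mem_GF) D.isPGroup_U (fun _ => eq_one_of_pow D) (move C.qs)])).not_dvd_index
  have h2 : (D.U ⊓ GF F G).relIndex K * K.relIndex (GF F G) = (D.U ⊓ GF F G).relIndex (GF F G) :=
    relIndex_mul_relIndex _ _ _ C.U_le C.le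
  have h3 : (D.U ⊓ GF F G).subgroupOf K = D.U.subgroupOf K :=
    Subgroup.ext fun x => ⟨fun hx => hx.1, fun hx => ⟨hx, C.le x.2⟩⟩
  intro h4
  refine h1 ?_
  show 2 ∣ (D.U ⊓ GF F G).relIndex (GF F G)
  rw [← h2, relIndex, h3]
  exact h4.mul_right _

/-- the Sylow subgroup `π (U^F)` -/
noncomputable def Q : Sylow 2 S :=
  have := fact2
  have := C.finK
  ((D.isPGroup_U.comap_subtype (K := K)).toSylow C.not_dvd_index).mapSurjective C.surj

theorem mem_Q' {s : S} : s ∈ (C.Q : Subgroup S) ↔ ∃ x : K, (x : Y) ∈ D.U ∧ π x = s := Iff.rfl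

theorem mk_mem_Q {u : Y} (hu : u ∈ D.U ⊓ GF F G) : π ⟨u, C.U_le hu⟩ ∈ (C.Q : Subgroup S) := ⟨_, hu.1, rfl⟩

theorem mem_Q_T {t : K} (ht : (t : Y) ∈ D.T) : π t ∈ (C.Q : Subgroup S) ↔ Cen G t := by
  refine ⟨fun h => (C.ker t).1 (eq_one_of_odd_of_mem C.Q.isPGroup' h ?_), fun h => ?_⟩
  · exact Odd.of_dvd_nat (odd_T D ht) ((orderOf_map_dvd π t).trans (by rw [orderOf_coe]))
  · rw [(C.ker t).2 h]
    exact one_mem _

theorem mem_U {x : K} (h2 : ∃ n : ℕ, (x : Y) ^ 2 ^ n = 1) (h : π x ∈ (C.Q : Subgroup S)) : (x : Y) ∈ D.U := by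
  obtain ⟨u, hu, h1⟩ := h
  rw [← eq_of_cen D (C.le u.2).1 (C.le x.2).1 (pow_U D hu) h2 ((C.eq_iff u x).1 h1)]
  exact hu

theorem exists_norm {y : S} (hy : y ∈ normalizer ((C.Q : Subgroup S) : Set S)) :
    ∃ u t : K, (u : Y) ∈ D.U ∧ (t : Y) ∈ D.T ∧ y = π u * π t := by
  obtain ⟨x, rfl⟩ := C.surj y
  obtain ⟨u, hu, t, ht, h1⟩ := exists_BF C.qs (C.le x.2) fun v hv => by
    have h2 := (mem_normalizer_iff.1 (inv_mem hy) _).1 (C.mk_mem_Q hv)
    rw [inv_inv, ← map_inv, ← map_mul, ← map_mul] at h2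
    refine C.mem_U ?_ h2
    obtain ⟨n, hn⟩ := pow_U D hv.1
    refine ⟨n, ?_⟩
    have h3 := conj_pow (a := (x : Y)⁻¹) (b := v) (i := 2 ^ n)
    rw [inv_inv, hn, mul_one, inv_mul_cancel] at h3
    exact h3
  have h2 : t ∈ K := by
    rw [eq_inv_mul_of_mul_eq h1.symm]
    exact mul_mem (inv_mem (C.U_le hu)) x.2
  exact ⟨⟨u, C.U_le hu⟩, ⟨t, h2⟩, hu.1, ht.1, by rw [← map_mul]; exact congrArg π (Subtype.ext h1)⟩

theorem T_mem_norm {t : K} (ht : (t : Y) ∈ D.T) : π t ∈ normalizer ((C.Q : Subgroup S) : Set S) := by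
  have := C.finS
  refine mem_normalizer_fintype ?_
  rintro _ ⟨u, hu, rfl⟩
  exact ⟨t * u * t⁻¹, D.conj_mem_U_of_T ht hu, by rw [map_mul, map_mul, map_inv]⟩

/-- conjugation with `π (u t)` multiplies the coordinates with the simple roots -/
theorem kap_conj {u t v w : K} (hu : (u : Y) ∈ D.U) (ht : (t : Y) ∈ D.T) (hv : (v : Y) ∈ D.U) (hw : (w : Y) ∈ D.U)
    (h : π u * π t * π v * (π u * π t)⁻¹ = π w) (i : D.I) : kap D i w = D.χ (sr i) t * kap D i v := by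
  rw [← map_mul, ← map_mul, ← map_inv, ← map_mul] at h
  have h1 : (u : Y) * t * v * ((u : Y) * t)⁻¹ ∈ D.U := by
    rw [show (u : Y) * t * v * ((u : Y) * t)⁻¹ = u * (t * v * (t : Y)⁻¹) * (u : Y)⁻¹ by group]
    exact mul_mem (mul_mem hu (D.conj_mem_U_of_T ht hv)) (inv_mem hu)
  rw [← eq_of_cen D (D.U_le_G h1) (D.U_le_G hw) (pow_U D h1) (pow_U D hw) ((C.eq_iff _ _).1 h), kap_conj_B hu ht hv]

theorem noC : NoC S := by
  have := C.finS
  refine noC_of_le C.Q fun y hy => ?_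
  obtain ⟨u, t, hu, ht, rfl⟩ := C.exists_norm (centralizer_le_normalizer _ hy)
  refine mul_mem ⟨u, hu, rfl⟩ ((C.mem_Q_T ht).2 (cen_of_chi ht fun i => ?_))
  obtain ⟨v, hv, h1⟩ := exists_regU C.qs
  have h2 := C.kap_conj hu ht (v := ⟨v, C.U_le hv⟩) hv.1 hv.1
    (by rw [← mem_centralizer_iff.1 hy _ (C.mk_mem_Q hv), mul_inv_cancel_right]) i
  exact (mul_eq_right₀ (h1 i)).1 h2.symm

theorem map_Q {α : MulAut Y} {r : MulAut S} (h : Ind π α r) (hU : ∀ u ∈ D.U, α u ∈ D.U) :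
    ∀ q ∈ (C.Q : Subgroup S), r q ∈ (C.Q : Subgroup S) := by
  rintro _ ⟨u, hu, rfl⟩
  obtain ⟨h1, h2⟩ := h u
  exact ⟨⟨_, h1⟩, hU u hu, h2.symm⟩

/-- an inner automorphism of 2-power order which normalizes `Q` fixes the coordinates -/
theorem kap_of_inner (hZ : center S = ⊥) {α : MulAut Y} {r : MulAut S} (h : Ind π α r) (hU : ∀ u ∈ D.U, α u ∈ D.U)
    (hr : Inner r) {n : ℕ} (h2 : r ^ 2 ^ n = 1) {v : Y} (hv : v ∈ D.U ⊓ GF F G) (i : D.I) :
    kap D i (α v) = kap D i v := by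
  have := C.finS
  obtain ⟨s, rfl⟩ := hr
  have h1 : s ∈ (C.Q : Subgroup S) := by
    refine mem_of_pow_mem C.Q (mem_normalizer_fintype (C.map_Q h hU)) (k := n) ?_
    rw [← map_pow] at h2
    have h3 : s ^ 2 ^ n ∈ center S := mem_center_iff.2 fun g => by
      have h4 := congrArg (fun φ : MulAut S => φ g) h2
      exact (mul_inv_eq_iff_eq_mul.1 h4).symm
    rw [hZ, mem_bot] at h3
    rw [h3]
    exact one_mem _
  obtain ⟨u, hu, rfl⟩ := h1
  obtain ⟨h3, h4⟩ := h ⟨v, C.U_le hv⟩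
  have h5 := C.kap_conj hu (t := 1) (one_mem _) (v := ⟨v, C.U_le hv⟩) (w := ⟨_, h3⟩) hv.1 (hU v hv.1)
    (by rw [map_one, mul_one]; exact h4) i
  rw [h5, OneMemClass.coe_one, D.χ_one, one_mul]

/-- `DDA` in terms of the torus, modulo the centre -/
theorem dda_iff' {A : Subgroup (MulAut S)}
    (hA : ∀ r ∈ A, ∃ α, Ind π α r ∧ (∀ u ∈ D.U, α u ∈ D.U) ∧ ∀ t ∈ D.T, α t ∈ D.T) :
    DDA C.Q A ↔ ∀ t : K, (t : Y) ∈ D.T → (∀ r ∈ A, r (π t) = π t) → Cen G t := by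
  constructor
  · intro h t ht h1
    refine (C.ker t).1 (h _ (C.T_mem_norm ht) ?_ fun r hr => ?_)
    · exact Odd.of_dvd_nat (odd_T D ht) ((orderOf_map_dvd π t).trans (by rw [orderOf_coe]))
    · rw [h1 r hr, inv_mul_cancel]
      exact one_mem _
  · intro h y hy ho h1
    obtain ⟨u, t, hu, ht, rfl⟩ := C.exists_norm hy
    have hu' : π u ∈ (C.Q : Subgroup S) := ⟨u, hu, rfl⟩
    refine eq_one_of_odd_of_mem C.Q.isPGroup' (mul_mem hu' ((C.mem_Q_T ht).2 (h t ht fun r hr => ?_))) ho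
    obtain ⟨α, h2, h3, h4⟩ := hA r hr
    obtain ⟨h5, h6⟩ := h2 t
    have h7 := (mem_normalizer_iff.1 (inv_mem (C.T_mem_norm ht)) _).1 (mul_mem (inv_mem hu') (C.map_Q h2 h3 _ hu'))
    have h8 := mul_mem (inv_mem h7) (h1 r hr)
    rw [map_mul, show ((π t)⁻¹ * ((π u)⁻¹ * r (π u)) * (π t)⁻¹⁻¹)⁻¹ * ((π u * π t)⁻¹ * (r (π u) * r (π t))) =
      (π t)⁻¹ * r (π t) by group, h6, ← map_inv, ← map_mul] at h8
    rw [h6]
    exact ((C.eq_iff _ _).2 ((C.mem_Q_T (mul_mem (inv_mem ht) (h4 t ht))).1 h8)).symm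

end Cx

end Cfsg.Agent.GAL.Two
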