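import Cfsg.Agent.GAL.Nrm.Gen

/-!
# S4617 / S4618, characteristic 2: reduction of the box to a complement (helper10, GAL)

`Φ` is a group of automorphisms which normalizes the Sylow 2-subgroup `Q` and whose image in `Out S` has odd index.

* `DDA Q A` : `A` has no fixed points on the odd part of `N(Q) / Q`;
* `box_of_phi` : `Box S` follows from `DDA Q A ↔ FF A` for the 2-subgroups `A` of `Φ`;
* `odd_index`, `odd_index_one`, `odd_index_two` : the index is odd by counting;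
* `cases_two`, `cases_one` : the 2-subgroups of `⟨f, g⟩` and of `⟨f⟩`.
-/

set_option autoImplicit false

namespace Cfsg.Agent.GAL.Two

open Cfsg Cfsg.Agent.H601.K4 Cfsg.Agent.TAB.Use Cfsg.Agent.ODD.Red Subgroup Cfsg.Agent.GAL.Nrm

universe u v

variable {S : Type u} [Group S]

/-- `A` has no fixed points on the odd part of `N(Q) / Q` -/
def DDA (Q : Sylow 2 S) (A : Subgroup (MulAut S)) : Prop :=
  ∀ y ∈ normalizer ((Q : Subgroup S) : Set S), Odd (orderOf y) → (∀ r ∈ A, y⁻¹ * r y ∈ (Q : Subgroup S)) → y = 1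

/-- the image of a group of automorphisms in `Out S` -/
def outOf (Φ : Subgroup (MulAut S)) : Subgroup (Out S) := Φ.map (QuotientGroup.mk' (Inn S))

theorem dd_conj [Finite S] {Q Q₀ : Sylow 2 S} {R : Subgroup (MulAut S)} (α : MulAut S)
    (hQ : ∀ x, x ∈ (Q : Subgroup S) ↔ α⁻¹ x ∈ (Q₀ : Subgroup S)) :
    DD Q R ↔ DD Q₀ (R.map (MulAut.conj α⁻¹).toMonoidHom) := by
  have ho : ∀ (β : MulAut S) (y : S), orderOf (β y) = orderOf y := fun β y => MulEquiv.orderOf_eq β y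
  constructor
  · rintro h y hy h1 _ ⟨r, hr, rfl⟩
    have h2 := h (α y) (by rwa [ho]) (fun r' hr' => ?_) r hr
    · show α⁻¹ (r (α⁻¹⁻¹ y)) = y
      rw [inv_inv, h2, MulAut.inv_apply_self]
    · have h3 := h1 _ ⟨r', hr', rfl⟩
      rw [hQ, map_mul, map_inv, MulAut.inv_apply_self]
      exact h3
  · intro h y hy h1 r hr
    have h2 := h (α⁻¹ y) (by rwa [ho]) ?_ _ ⟨r, hr, rfl⟩
    · have h3 : α⁻¹ (r (α (α⁻¹ y))) = α⁻¹ y := h2
      rw [MulAut.apply_inv_self] at h3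
      exact (α⁻¹).injective h3
    · rintro _ ⟨r', hr', rfl⟩
      have h3 := (hQ _).1 (h1 r' hr')
      rw [map_mul, map_inv] at h3
      show (α⁻¹ y)⁻¹ * α⁻¹ (r' (α (α⁻¹ y))) ∈ _
      rwa [MulAut.apply_inv_self]

theorem FF.conj [Finite S] {R : Subgroup (MulAut S)} (h : FF R) (α : MulAut S) :
    FF (R.map (MulAut.conj α⁻¹).toMonoidHom) := by
  intro θ h1 h2 h3 σ hσ s
  have h5 := h (fun x => θ (α⁻¹ x)) (oddIrr_comp (f := (α⁻¹).toMonoidHom) (α⁻¹).surjective h1)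
    (inB0_equiv α⁻¹ h1 h2) (fun r hr x => ?_) σ hσ (α s)
  · simpa using h5
  · have h6 := h3 _ ⟨r, hr, rfl⟩ (α⁻¹ x)
    have h7 : θ (α⁻¹ (r (α (α⁻¹ x)))) = θ (α⁻¹ x) := h6
    rwa [MulAut.apply_inv_self] at h7

theorem ff_conj [Finite S] {R : Subgroup (MulAut S)} (α : MulAut S) :
    FF R ↔ FF (R.map (MulAut.conj α⁻¹).toMonoidHom) := by
  refine ⟨fun h => FF.conj h α, fun h => ?_⟩
  have h1 := FF.conj h α⁻¹
  rw [Subgroup.map_map] at h1
  have h2 : (MulAut.conj α⁻¹⁻¹).toMonoidHom.comp (MulAut.conj α⁻¹).toMonoidHom = MonoidHom.id (MulAut S) := by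
    ext1 r
    simp [MulAut.conj_apply]
    group
  rwa [h2, Subgroup.map_id] at h1

/-- frames inside `Q Φ` -/
theorem dd_iff [Finite S] (hC : NoC S) {Q : Sylow 2 S} {R A : Subgroup (MulAut S)} (hR : Frame Q R) (hA : A ≤ R)
    (h : ∀ r ∈ R, ∃ q ∈ (Q : Subgroup S), ∃ a ∈ A, r = MulAut.conj q * a) : DD Q R ↔ DDA Q A := by
  constructor
  · intro hD y hy ho h1
    refine hC Q y (mem_centralizer_iff.2 fun q hq => ?_) ho
    have h2 := hD y ho (fun r hr => ?_) _ (hR.inn q hq)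
    · rw [MulAut.conj_apply] at h2
      exact mul_inv_eq_iff_eq_mul.1 h2
    · obtain ⟨q', hq', a, ha, rfl⟩ := h r hr
      have h3 := (mem_normalizer_iff.1 (inv_mem hy) q').1 hq'
      rw [inv_inv] at h3
      have h4 := mul_mem (mul_mem h3 (h1 a ha)) (inv_mem hq')
      rw [MulAut.mul_apply, MulAut.conj_apply]
      rwa [show y⁻¹ * q' * y * (y⁻¹ * a y) * q'⁻¹ = y⁻¹ * (q' * a y * q'⁻¹) by group] at h4
  · intro hD y ho h1 r _
    have h2 : y⁻¹ ∈ normalizer ((Q : Subgroup S) : Set S) := by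
      refine mem_normalizer_fintype fun x hx => ?_
      have h6 := (Q : Subgroup S).mul_mem (h1 _ (hR.inn _ hx)) hx
      rw [MulAut.conj_apply, show y⁻¹ * (x * y * x⁻¹) * x = y⁻¹ * x * y by group] at h6
      rwa [inv_inv]
    rw [hD y (by simpa using inv_mem h2) ho fun a ha => h1 a (hA ha), map_one]

theorem ff_iff {Q : Sylow 2 S} {R A : Subgroup (MulAut S)} (hA : A ≤ R)
    (h : ∀ r ∈ R, ∃ q ∈ (Q : Subgroup S), ∃ a ∈ A, r = MulAut.conj q * a) : FF R ↔ FF A := by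
  constructor
  · intro hF θ h1 h2 h3
    refine hF θ h1 h2 fun r hr s => ?_
    obtain ⟨q, -, a, ha, rfl⟩ := h r hr
    rw [MulAut.mul_apply, MulAut.conj_apply, Cfsg.Agent.Characters.Core.isIrr_isClassFunction h1.1, h3 a ha]
  · exact fun hF θ h1 h2 h3 => hF θ h1 h2 fun a ha => h3 a (hA ha)

/-- **the box from the 2-subgroups of `Φ`** -/
theorem box_of_phi [Finite S] (hZ : center S = ⊥) (hC : NoC S) (Q₀ : Sylow 2 S) (Φ : Subgroup (MulAut S))
    (hN : ∀ r ∈ Φ, ∀ q ∈ (Q₀ : Subgroup S), r q ∈ (Q₀ : Subgroup S)) (hO : Odd (outOf Φ).index)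
    (h : ∀ A ≤ Φ, IsPGroup 2 A → (DDA Q₀ A ↔ FF A)) : Box S := by
  have := fact2
  intro Q R hR
  obtain ⟨T⟩ : Nonempty (Sylow 2 ↥Φ) := inferInstance
  set T' : Subgroup (MulAut S) := (T : Subgroup ↥Φ).map Φ.subtype with hT'
  have hT2 : IsPGroup 2 T' := T.isPGroup'.map _
  have hTΦ : T' ≤ Φ := map_subtype_le _
  set C : Subgroup (MulAut S) := (Q₀ : Subgroup S).map (MulAut.conj : S →* MulAut S) with hCdef
  have hC2 : IsPGroup 2 C := Q₀.isPGroup'.map _
  have hn : T' ≤ normalizer (C : Set (MulAut S)) := by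
    intro r hr
    refine mem_normalizer_fintype ?_
    rintro _ ⟨q, hq, rfl⟩
    rw [conj_conj]
    exact ⟨_, hN r (hTΦ hr) q hq, rfl⟩
  obtain ⟨P₀, hP₀⟩ := (hC2.to_sup_of_normal_left' hT2 hn).exists_le_sylow
  obtain ⟨P, hP⟩ := hR.two.exists_le_sylow
  have fP : Frame Q (P : Subgroup (MulAut S)) := ⟨P.isPGroup', fun q hq => hP (hR.inn q hq)⟩
  have fP₀ : Frame Q₀ (P₀ : Subgroup (MulAut S)) :=
    ⟨P₀.isPGroup', fun q hq => hP₀ (le_sup_left (a := C) ⟨q, hq, rfl⟩)⟩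
  -- the image of `T'` is a Sylow subgroup of `Out S`
  have hind : ¬ 2 ∣ (outOf T').index := by
    have h1 : (outOf T').relIndex (outOf Φ) ∣ T'.relIndex Φ := by
      rw [outOf, outOf, ← relIndex_comap]
      exact relIndex_dvd_of_le_left Φ (le_comap_map _ _)
    have h3 : T'.relIndex Φ = (T : Subgroup ↥Φ).index := by
      rw [relIndex, hT', subgroupOf, comap_map_eq_self_of_injective Φ.subtype_injective]
    have h6 : outOf T' ≤ outOf Φ := map_mono hTΦ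
    rw [← relIndex_mul_index h6]
    intro h4
    rcases (Nat.Prime.dvd_mul Nat.prime_two).1 h4 with h5 | h5
    · exact T.not_dvd_index (h3 ▸ h5.trans h1)
    · exact odd_iff'.1 hO h5
  have hsyl : outOf (P₀ : Subgroup (MulAut S)) = outOf T' :=
    ((hT2.map (QuotientGroup.mk' (Inn S))).toSylow hind).is_maximal' (P₀.isPGroup'.map _)
      (map_mono (le_sup_right.trans hP₀))
  have hdec : ∀ r ∈ (P₀ : Subgroup (MulAut S)), ∃ q ∈ (Q₀ : Subgroup S), ∃ a ∈ T', r = MulAut.conj q * a := by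
    intro r hr
    have h1 : (QuotientGroup.mk r : Out S) ∈ outOf T' := hsyl ▸ ⟨r, hr, rfl⟩
    obtain ⟨a, ha, h2⟩ := h1
    obtain ⟨q, hq⟩ := exists_of_mk_eq h2.symm
    refine ⟨q, fP₀.mem hZ ?_, a, ha, hq⟩
    rw [eq_mul_inv_of_mul_eq hq.symm]
    exact mul_mem hr (inv_mem (hP₀ (le_sup_right (a := C) ha)))
  obtain ⟨α, rfl⟩ := MulAction.exists_smul_eq (MulAut S) P₀ P
  have hmem : ∀ x, x ∈ ((α • P₀ : Sylow 2 (MulAut S)) : Subgroup (MulAut S)) ↔
      α⁻¹ * x * α ∈ (P₀ : Subgroup (MulAut S)) := by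
    intro x
    rw [Sylow.coe_subgroup_smul, Subgroup.mem_pointwise_smul_iff_inv_smul_mem, ← map_inv, MulAut.smul_def,
      MulAut.conj_apply, inv_inv]
  have hQ : ∀ x, x ∈ (Q : Subgroup S) ↔ α⁻¹ x ∈ (Q₀ : Subgroup S) := by
    intro x
    have h1 := conj_conj α⁻¹ x
    rw [inv_inv] at h1
    constructor
    · intro hx
      refine fP₀.mem hZ ?_
      rw [← h1, ← hmem]
      exact fP.inn x hx
    · intro hx
      refine fP.mem hZ ?_
      rw [hmem, h1]
      exact fP₀.inn _ hx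
  set R₀ := R.map (MulAut.conj α⁻¹).toMonoidHom with hR₀
  have hle : R₀ ≤ P₀ := by
    rintro _ ⟨r, hr, rfl⟩
    have h1 := (hmem r).1 (hP hr)
    simpa [MulAut.conj_apply] using h1
  have fR₀ : Frame Q₀ R₀ := by
    refine ⟨hR.two.map _, fun q hq => ⟨MulAut.conj (α q), hR.inn _ ?_, ?_⟩⟩
    · rw [hQ, MulAut.inv_apply_self]
      exact hq
    · show α⁻¹ * MulAut.conj (α q) * α⁻¹⁻¹ = _
      rw [conj_conj, MulAut.inv_apply_self]
  have hdec' : ∀ r ∈ R₀, ∃ q ∈ (Q₀ : Subgroup S), ∃ a ∈ R₀ ⊓ T', r = MulAut.conj q * a := by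
    intro r hr
    obtain ⟨q, hq, a, ha, h1⟩ := hdec r (hle hr)
    refine ⟨q, hq, a, Subgroup.mem_inf.2 ⟨?_, ha⟩, h1⟩
    rw [eq_inv_mul_of_mul_eq h1.symm]
    exact mul_mem (inv_mem (fR₀.inn q hq)) hr
  rw [dd_conj α hQ, ff_conj α, dd_iff hC fR₀ inf_le_left hdec', ff_iff inf_le_left hdec']
  exact h _ (inf_le_right.trans hTΦ) (hT2.to_inf_right)

/-! ### the index is odd -/

theorem odd_index [Finite S] {Γ : Type v} [Group Γ] [Finite Γ] (ρ : Γ →* MulAut S) {m : ℕ} (hm : Odd m)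
    (hc : Nat.card (Out S) ∣ Nat.card Γ * m) (hi : ∀ x : Γ, x ^ 2 = 1 → Inner (ρ x) → x = 1) :
    Odd (outOf ρ.range).index := by
  have := fact2
  set π := (QuotientGroup.mk' (Inn S)).comp ρ with hπ
  have h1 : outOf ρ.range = π.range := by rw [outOf, hπ, MonoidHom.range_comp]
  have h2 : Odd (Nat.card π.ker) := by
    rw [odd_iff']
    intro h3
    obtain ⟨x, hx⟩ := exists_prime_orderOf_dvd_card' 2 h3
    have h4 : (x : Γ) = 1 := hi x (by rw [← hx, ← Subgroup.coe_pow, pow_orderOf_eq_one, OneMemClass.coe_one])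
      ((inner_iff _).2 x.2)
    rw [show x = 1 from Subtype.ext h4, orderOf_one] at hx
    omega
  have h3 : Nat.card π.ker * Nat.card π.range = Nat.card Γ := by
    rw [← index_ker, card_mul_index]
  have h4 := card_mul_index π.range
  rw [← h4, ← h3, mul_comm (Nat.card π.ker), mul_assoc] at hc
  rw [h1]
  exact Odd.of_dvd_nat (h2.mul hm) (Nat.dvd_of_mul_dvd_mul_left Nat.card_pos hc)

/-- the homomorphism from a cyclic group -/
def cyc {G : Type v} [Group G] (f : G) (n : ℕ) (hf : f ^ n = 1) : Multiplicative (ZMod n) →* G :=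
  AddMonoidHom.toMultiplicativeLeft (ZMod.lift n ⟨zmultiplesHom (Additive G) (Additive.ofMul f), by
    show Additive.ofMul (f ^ (n : ℤ)) = 0
    rw [zpow_natCast, hf]
    rfl⟩)

theorem cyc_apply {G : Type v} [Group G] (f : G) (n : ℕ) (hf : f ^ n = 1) (i : ℕ) :
    cyc f n hf (Multiplicative.ofAdd (i : ZMod n)) = f ^ i := by
  have h1 : ((i : ℤ) : ZMod n) = (i : ZMod n) := Int.cast_natCast i
  rw [← h1, cyc, AddMonoidHom.toMultiplicativeLeft_apply_apply, toAdd_ofAdd, ZMod.lift_coe]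
  show f ^ (i : ℤ) = f ^ i
  rw [zpow_natCast]

theorem exists_val {n : ℕ} (hn : n ≠ 0) (x : Multiplicative (ZMod n)) :
    ∃ i < n, x = Multiplicative.ofAdd (i : ZMod n) := by
  have : NeZero n := ⟨hn⟩
  exact ⟨(Multiplicative.toAdd x).val, ZMod.val_lt _, by rw [ZMod.natCast_zmod_val, ofAdd_toAdd]⟩

theorem sq_val {n i : ℕ} (hi : i < n) (h : (Multiplicative.ofAdd (i : ZMod n)) ^ 2 = 1) : i = 0 ∨ 2 * i = n := by
  have h1 : ((2 * i : ℕ) : ZMod n) = 0 := by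
    have h2 := congrArg Multiplicative.toAdd h
    rw [toAdd_pow, toAdd_ofAdd, toAdd_one] at h2
    rw [← h2, nsmul_eq_mul, Nat.cast_mul]
  obtain ⟨c, hc⟩ := (ZMod.natCast_eq_zero_iff _ _).1 h1
  have h3 : c < 2 := by
    by_contra h4
    have : n * 2 ≤ n * c := Nat.mul_le_mul_left n (by omega)
    omega
  interval_cases c <;> omega

theorem odd_index_one [Finite S] {f : MulAut S} {n m : ℕ} (hn : n ≠ 0) (hf : f ^ n = 1) (hm : Odd m)
    (hc : Nat.card (Out S) ∣ n * m) (hi : ∀ i, 2 * i = n → ¬ Inner (f ^ i)) : Odd (outOf (zpowers f)).index := by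
  have : NeZero n := ⟨hn⟩
  have h1 := odd_index (cyc f n hf) hm (by simpa using hc) fun x hx h2 => by
    obtain ⟨i, hi', rfl⟩ := exists_val hn x
    rcases sq_val hi' hx with h3 | h3
    · rw [h3, Nat.cast_zero, ofAdd_zero]
    · rw [cyc_apply] at h2
      exact absurd h2 (hi i h3)
  refine Odd.of_dvd_nat h1 (index_dvd_of_le (map_mono ?_))
  rintro _ ⟨x, rfl⟩
  obtain ⟨i, -, rfl⟩ := exists_val hn x
  rw [cyc_apply]
  exact npow_mem_zpowers f i

theorem odd_index_two [Finite S] {f g : MulAut S} {n m : ℕ} (hn : n ≠ 0) (hf : f ^ n = 1) (hg : g ^ 2 = 1)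
    (hfg : Commute f g) (hm : Odd m) (hc : Nat.card (Out S) ∣ 2 * n * m) (hg' : ¬ Inner g)
    (hi : ∀ i, 2 * i = n → ¬ Inner (f ^ i) ∧ ¬ Inner (f ^ i * g)) : Odd (outOf (closure {f, g})).index := by
  have : NeZero n := ⟨hn⟩
  have hcomm : ∀ x y, Commute (cyc f n hf x) (cyc g 2 hg y) := by
    intro x y
    obtain ⟨i, -, rfl⟩ := exists_val hn x
    obtain ⟨j, -, rfl⟩ := exists_val two_ne_zero y
    rw [cyc_apply, cyc_apply]
    exact hfg.pow_pow i j
  have h1 := odd_index ((cyc f n hf).noncommCoprod (cyc g 2 hg) hcomm) hm (by simpa [mul_comm] using hc)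
    fun x hx h2 => by
      obtain ⟨x, y⟩ := x
      obtain ⟨i, hi', rfl⟩ := exists_val hn x
      obtain ⟨j, hj, rfl⟩ := exists_val two_ne_zero y
      rw [MonoidHom.noncommCoprod_apply, cyc_apply, cyc_apply] at h2
      rcases sq_val hi' (congrArg Prod.fst hx) with h3 | h3
      · subst h3
        interval_cases j
        · simp
        · exact absurd (by simpa using h2) hg'
      · interval_cases j
        · exact absurd (by simpa using h2) (hi i h3).1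
        · exact absurd (by simpa using h2) (hi i h3).2
  refine Odd.of_dvd_nat h1 (index_dvd_of_le (map_mono ?_))
  rintro _ ⟨⟨x, y⟩, rfl⟩
  obtain ⟨i, -, rfl⟩ := exists_val hn x
  obtain ⟨j, -, rfl⟩ := exists_val two_ne_zero y
  rw [MonoidHom.noncommCoprod_apply, cyc_apply, cyc_apply]
  exact mul_mem (pow_mem (subset_closure (by simp)) _) (pow_mem (subset_closure (by simp)) _)

/-! ### the 2-subgroups of `⟨f, g⟩` -/

section

variable {G : Type v} [Group G]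

theorem mem_closure_two {f g : G} {n : ℕ} (hn : n ≠ 0) (hf : f ^ n = 1) (hg : g ^ 2 = 1) (hfg : Commute f g) {x : G}
    (hx : x ∈ closure ({f, g} : Set G)) : ∃ i : ℕ, x = f ^ i ∨ x = f ^ i * g := by
  have hgg : g * g = 1 := by rw [← hg, sq]
  have hmul : ∀ i j : ℕ, f ^ i * g * f ^ j = f ^ (i + j) * g := fun i j => by
    rw [mul_assoc, ← (hfg.pow_left j).eq, ← mul_assoc, ← pow_add]
  induction hx using closure_induction with
  | mem x hx =>
    rcases hx with rfl | rfl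
    · exact ⟨1, Or.inl (pow_one _).symm⟩
    · exact ⟨0, Or.inr (by simp)⟩
  | one => exact ⟨0, Or.inl (pow_zero _).symm⟩
  | mul x y _ _ hx hy =>
    obtain ⟨i, rfl | rfl⟩ := hx <;> obtain ⟨j, rfl | rfl⟩ := hy
    · exact ⟨i + j, Or.inl (pow_add _ _ _).symm⟩
    · exact ⟨i + j, Or.inr (by rw [pow_add, mul_assoc])⟩
    · exact ⟨i + j, Or.inr (hmul i j)⟩
    · exact ⟨i + j, Or.inl (by rw [← mul_assoc, hmul, mul_assoc, hgg, mul_one])⟩
  | inv x _ hx =>
    obtain ⟨k, rfl⟩ := Nat.exists_eq_succ_of_ne_zero hn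
    have h1 : ∀ i : ℕ, f ^ i * f ^ (i * k) = 1 := fun i => by
      rw [← pow_add, show i + i * k = (k + 1) * i by ring, pow_mul, hf, one_pow]
    obtain ⟨i, rfl | rfl⟩ := hx
    · exact ⟨i * k, Or.inl (inv_eq_of_mul_eq_one_right (h1 i))⟩
    · refine ⟨i * k, Or.inr (inv_eq_of_mul_eq_one_right ?_)⟩
      rw [← mul_assoc, hmul, mul_assoc, hgg, mul_one, pow_add, h1]

/-- a 2-subgroup `A` of `⟨f, g⟩` : `f ∈ A`, or `A ≤ ⟨f ^ k, g⟩` for a prime `k ∣ n`, or `n` is a power of `2` and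
`A = ⟨f g⟩` -/
theorem cases_two {f g : G} {n : ℕ} (hn : n ≠ 0) (hf : orderOf f = n) (hg : g ^ 2 = 1) (hfg : Commute f g)
    {A : Subgroup G} (hA : A ≤ closure ({f, g} : Set G)) (h2 : IsPGroup 2 A) :
    f ∈ A ∨ (∃ k : ℕ, k.Prime ∧ k ∣ n ∧ ∀ r ∈ A, ∃ i : ℕ, r = f ^ (k * i) ∨ r = f ^ (k * i) * g) ∨
      (∃ a : ℕ, n = 2 ^ (a + 1) ∧ f * g ∈ A ∧ ∀ r ∈ A, ∃ i : ℕ, r = (f * g) ^ i) := by
  have hf1 : f ^ n = 1 := hf ▸ pow_orderOf_eq_one f
  have hgg : g * g = 1 := by rw [← hg, sq]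
  obtain ⟨a, m, hm, rfl⟩ := Nat.exists_eq_two_pow_mul_odd hn
  by_cases hm1 : m = 1
  swap
  · obtain ⟨k, hk, hkm⟩ := Nat.exists_prime_and_dvd hm1
    refine Or.inr (Or.inl ⟨k, hk, hkm.mul_left _, fun r hr => ?_⟩)
    obtain ⟨i, hi⟩ := mem_closure_two hn hf1 hg hfg (hA hr)
    obtain ⟨b, hb⟩ := h2 ⟨r, hr⟩
    have hb' : r ^ 2 ^ b = 1 := congrArg Subtype.val hb
    have h3 : f ^ (i * (2 * 2 ^ b)) = 1 := by
      have h4 : r ^ (2 * 2 ^ b) = 1 := by rw [mul_comm, pow_mul, hb', one_pow]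
      rcases hi with rfl | rfl
      · rwa [pow_mul]
      · rwa [(hfg.pow_left i).mul_pow, pow_mul g, hg, one_pow, mul_one, ← pow_mul] at h4
    have h4 : k ∣ i * (2 * 2 ^ b) := ((hkm.mul_left _).trans (hf ▸ orderOf_dvd_of_pow_eq_one h3))
    have h5 : k ∣ i := by
      refine (Nat.Coprime.dvd_of_dvd_mul_right ?_ h4)
      rw [← pow_succ']
      exact Nat.Coprime.pow_right _ (Odd.of_dvd_nat hm hkm).coprime_two_right
    obtain ⟨j, rfl⟩ := h5
    exact ⟨j, hi⟩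
  subst hm1
  rw [mul_one] at hf hf1 hn
  by_cases hfA : f ∈ A
  · exact Or.inl hfA
  refine Or.inr ?_
  obtain _ | a := a
  · rw [pow_zero, pow_one] at hf1
    exact absurd (hf1 ▸ one_mem A) hfA
  by_cases hev : ∀ r ∈ A, ∃ i : ℕ, r = f ^ (2 * i) ∨ r = f ^ (2 * i) * g
  · exact Or.inl ⟨2, Nat.prime_two, by rw [mul_one]; exact dvd_pow_self 2 a.succ_ne_zero, hev⟩
  push Not at hev
  obtain ⟨r, hr, hr'⟩ := hev
  obtain ⟨i, hi⟩ := mem_closure_two hn hf1 hg hfg (hA hr)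
  have hio : Odd i := by
    by_contra h3
    obtain ⟨j, rfl⟩ := (Nat.not_odd_iff_even.1 h3).two_dvd
    exact hi.elim (hr' j).1 (hr' j).2
  obtain ⟨j, -, hj⟩ := Nat.exists_mul_mod_eq_one_of_coprime (k := 2 ^ (a + 1))
    (Nat.Coprime.pow_right _ hio.coprime_two_right) (Nat.one_lt_two_pow a.succ_ne_zero)
  have h3 : (f ^ i) ^ j = f := by rw [← pow_mul, ← pow_mod_orderOf, hf, hj, pow_one]
  have hjo : Odd j := by
    have h4 : i * j % 2 = 1 := by
      rw [← Nat.mod_mod_of_dvd (i * j) (dvd_pow_self 2 a.succ_ne_zero), hj]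
    exact Nat.Odd.of_mul_right (Nat.odd_iff.2 h4)
  have h4 : f * g ∈ A := by
    rcases hi with rfl | rfl
    · exact absurd (h3 ▸ pow_mem hr j) hfA
    · have h5 := pow_mem hr j
      obtain ⟨l, rfl⟩ := hjo
      rwa [(hfg.pow_left i).mul_pow, h3, pow_succ, pow_mul, hg, one_pow, one_mul] at h5
  refine Or.inr ⟨a, mul_one _, h4, fun s hs => ?_⟩
  obtain ⟨l, hl⟩ := mem_closure_two hn hf1 hg hfg (hA hs)
  refine ⟨l, ?_⟩
  by_contra h5
  have h6 : s = (f * g) ^ l * g := by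
    rw [hfg.mul_pow] at h5 ⊢
    obtain ⟨c, rfl | rfl⟩ := Nat.even_or_odd' l
    · rw [pow_mul g, hg, one_pow, mul_one] at h5 ⊢
      exact hl.resolve_left h5
    · rw [pow_succ g, pow_mul g, hg, one_pow, one_mul] at h5 ⊢
      rw [mul_assoc, hgg, mul_one]
      exact hl.resolve_right h5
  have h7 : g ∈ A := by
    have h8 := mul_mem (inv_mem (pow_mem h4 l)) hs
    rwa [h6, inv_mul_cancel_left] at h8
  have h8 := mul_mem h4 h7
  rw [mul_assoc, hgg, mul_one] at h8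
  exact hfA h8

/-- a 2-subgroup `A` of `⟨f⟩` : `f ∈ A`, or `A ≤ ⟨f ^ k⟩` for a prime `k ∣ n` (an odd one if `n` has one) -/
theorem cases_one {f : G} {n : ℕ} (hn : n ≠ 0) (hf : orderOf f = n) {A : Subgroup G} (hA : A ≤ zpowers f)
    (h2 : IsPGroup 2 A) : f ∈ A ∨ ∃ k : ℕ, k.Prime ∧ k ∣ n ∧ ∀ r ∈ A, ∃ i : ℕ, r = f ^ (k * i) := by
  have h1 : A ≤ closure ({f, 1} : Set G) := hA.trans (zpowers_le_of_mem (subset_closure (by simp)))
  rcases cases_two hn hf (one_pow 2) (Commute.one_right f) h1 h2 with h | ⟨k, hk, hkn, h⟩ | ⟨a, -, h, -⟩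
  · exact Or.inl h
  · exact Or.inr ⟨k, hk, hkn, fun r hr => (h r hr).imp fun i hi => hi.elim id fun h3 => by rwa [mul_one] at h3⟩
  · exact Or.inl (by rwa [mul_one] at h)

/-- the elements of 2-power order of `⟨f⟩` are powers of `f ^ k` for the odd divisors `k` of the order -/
theorem pow_of_odd {f : G} {n k : ℕ} (hn : n ≠ 0) (hf : orderOf f = n) (hk : Odd k) (hkn : k ∣ n) {r : G}
    (hr : r ∈ zpowers f) {b : ℕ} (hb : r ^ 2 ^ b = 1) : ∃ i : ℕ, r = f ^ (k * i) := by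
  have hfin : IsOfFinOrder f := orderOf_ne_zero_iff.1 (hf ▸ hn)
  obtain ⟨i, rfl⟩ := hfin.mem_powers_iff_mem_zpowers.2 hr
  have h3 : f ^ (i * 2 ^ b) = 1 := by rwa [pow_mul]
  have h4 : k ∣ i * 2 ^ b := hkn.trans (hf ▸ orderOf_dvd_of_pow_eq_one h3)
  obtain ⟨j, rfl⟩ := Nat.Coprime.dvd_of_dvd_mul_right (Nat.Coprime.pow_right _ hk.coprime_two_right) h4
  exact ⟨j, rfl⟩

end

end Cfsg.Agent.GAL.Two
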